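import Cfsg.Agent.M12R.Rho
import Cfsg.Agent.ZC.Main
import Cfsg.Agent.Comp.Class
import Cfsg.Agent.LES.Holo
import Cfsg.Agent.GW.D8A6
import Cfsg.Agent.Classical.SLCard

/-! General lemmas for the recognition of groups with `C(z) = 2^{1+4}.S3` (helper28): `pc_of` (product closed class),
`caseV` (a normal `2³` with quotient `L₃(2)`), `midpoint`, `conj_of_self`. -/

set_option autoImplicit false

namespace Cfsg.Agent.M12R

open Cfsg.Agent.Comp Subgroup

variable {G : Type*} [Group G]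

theorem fix_iff {K : Subgroup G} {u g : G} : u • (g : G ⧸ K) = g ↔ κ g⁻¹ u ∈ K := by
  rw [MulAction.Quotient.smul_coe, eq_comm, QuotientGroup.eq]; simp [mul_assoc]

variable [Finite G] {z : G} {K : Subgroup G}

theorem into (hc : Nat.card (centralizer ({z} : Set G)) = 192) (hK : centralizer {z} ≤ K)
    (hodd : ¬ 2 ^ (6 + 1) ∣ Nat.card K) {u : G} (hu : u ∈ K) (h2 : u * u = 1) : ∃ g ∈ K, κ g u ∈ centralizer {z} := by
  obtain ⟨P, hP⟩ := Sylow.exists_subgroup_card_pow_prime (G := centralizer ({z} : Set G)) 2 (n := 6)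
    (by rw [hc]; decide)
  obtain ⟨g, hg, h⟩ := Comp.exists_conj_mem_sylow (P := P.map (centralizer {z}).subtype) (j := 1) Nat.prime_two
    ((map_subtype_le P).trans hK) (by rw [card_map_of_injective (subtype_injective _), hP]) rfl hodd hu
    (by rw [pow_one, pow_two, h2])
  exact ⟨g, hg, map_subtype_le P h⟩

omit [Finite G] in
theorem pc_of (oz : orderOf z = 2) (hK : centralizer {z} ≤ K) (fus : ∀ u ∈ K, IsConj z u → ∃ k ∈ K, κ k z = u)
    (cl : ∀ w ∈ centralizer {z}, IsConj z w → w ≠ z → IsConj z (z * w)) :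
    ZD.PC G (G ⧸ K) {u | IsConj z u} ∧ z • ((1 : G) : G ⧸ K) = (1 : G) ∧
      ∀ g, g ∉ K → κ g z • ((1 : G) : G ⧸ K) ≠ (1 : G) := by
  have un : ∀ c g : G, κ c z • (g : G ⧸ K) = g → (g : G ⧸ K) = c := fun c g h => by
    obtain ⟨k, hk, f⟩ := fus _ (fix_iff.1 h) (by rw [← cj_mul]; exact isConj_cj _ _)
    rw [← cj_mul] at f
    have := hK (memC.2 (cj_eq.1 ((cj_mul _ _ _).trans (cj_inv f))))
    have := mul_mem hk this
    rw [mul_inv_cancel_left] at this
    exact QuotientGroup.eq.2 this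
  refine ⟨⟨fun u hu => (Invol.orderOf_of_isConj hu).symm.trans oz, fun u hu g => IsConj.trans hu (isConj_cj g u),
    fun u hu => ?_, fun u hu p q hp hq => ?_, fun u hu v hv hc hne => ?_⟩, fix_iff.2 (by simpa using hK (memC.2 rfl)),
    fun g hg h => hg (by simpa using QuotientGroup.eq.1 (un g 1 h))⟩ <;> obtain ⟨c, rfl⟩ := isConj_iff.1 hu
  · exact ⟨c, fix_iff.2 (by rw [cj_inv (g := c) (p := z) (q := c * z * c⁻¹) rfl]; exact hK (memC.2 rfl))⟩
  · obtain ⟨p, rfl⟩ := QuotientGroup.mk_surjective p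
    obtain ⟨q, rfl⟩ := QuotientGroup.mk_surjective q
    exact (un c p hp).trans (un c q hq).symm
  · obtain ⟨w, rfl⟩ := (κ c).surjective v
    change IsConj z (κ c z * κ c w)
    rw [← map_mul]
    exact (cl w (memC.2 (cj_comm.1 hc.eq).symm) (IsConj.trans hv (isConj_cj c w).symm)
      fun k => hne (by rw [k]; rfl)).trans (isConj_cj c _)

theorem gl_sl : Nonempty (GL (Fin 3) (ZMod 2) ≃* Matrix.SpecialLinearGroup (Fin 3) (ZMod 2)) := by
  have h2 := Classical.card_units_mul_card_SL (ι := Fin 3) (R := ZMod 2)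
  rw [Nat.card_units, Nat.card_zmod, show 2 - 1 = 1 from rfl, one_mul] at h2
  exact ⟨(MulEquiv.ofBijective Matrix.SpecialLinearGroup.toGL ((Nat.bijective_iff_injective_and_card _).2
      ⟨Matrix.SpecialLinearGroup.toGL_injective, h2⟩)).symm⟩

theorem sl_psl : Nonempty (Matrix.SpecialLinearGroup (Fin 3) (ZMod 2) ≃*
    Matrix.ProjectiveSpecialLinearGroup (Fin 3) (ZMod 2)) := by
  have h1 : center (Matrix.SpecialLinearGroup (Fin 3) (ZMod 2)) = ⊥ := by
    rw [← card_eq_one, Classical.card_center_SL]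
    simp
  exact ⟨((QuotientGroup.quotientMulEquivOfEq h1).trans QuotientGroup.quotientBot).symm⟩

/-- `G` has a normal `2³` with quotient `L₃(2)`. -/
def CaseV (G : Type*) [Group G] : Prop :=
  ∃ (N : Subgroup G) (_ : N.Normal), IsMulCommutative N ∧ (∀ n ∈ N, n ^ 2 = 1) ∧ Nat.card N = 8 ∧
    Nonempty (G ⧸ N ≃* Matrix.ProjectiveSpecialLinearGroup (Fin 3) (ZMod 2))

theorem normV {V : Subgroup G} {r : G} (hV2 : ∀ v ∈ V, v * v = 1) (h8 : Nat.card V = 8)
    (hC : centralizer {z} ≤ normalizer (V : Set G)) (hc : Nat.card (centralizer ({z} : Set G)) = 192)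
    (hcV : centralizer (V : Set G) ≤ V) (hr : r ∈ normalizer (V : Set G)) (hr' : r ∉ centralizer {z}) :
    Nat.card (normalizer (V : Set G)) = 1344 ∧ ∃ f : normalizer (V : Set G) →* Matrix.SpecialLinearGroup (Fin 3) (ZMod 2),
      Function.Surjective f ∧ ∀ k, f k = 1 ↔ (k : G) ∈ V := by
  haveI := Fact.mk Nat.prime_two
  have ab := LES.abelian_of_sq hV2
  obtain ⟨e⟩ := @LES.aut_GL'' 3 2 _ V { (inferInstance : Group V) with mul_comm := ab.is_comm.comm } _
    (fun x => Subtype.ext (by simpa [pow_two] using hV2 x x.2)) h8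
  obtain ⟨e'⟩ := gl_sl
  let f := (e.trans e').toMonoidHom.comp V.normalizerMonoidHom
  have k : ∀ k, f k = 1 ↔ (k : G) ∈ V := fun k => by
    rw [← mem_subgroupOf (H := V), show f k = 1 ↔ k ∈ V.normalizerMonoidHom.ker from
      (e.trans e').map_eq_one_iff, normalizerMonoidHom_ker]
    exact ⟨fun h => hcV h, fun h => le_centralizer V h⟩
  have c1 := f.ker.card_mul_index
  rw [index_ker, show f.ker = V.subgroupOf _ from Subgroup.ext k,
    Nat.card_congr (subgroupOfEquivOfLe le_normalizer).toEquiv, h8] at c1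
  have c2 := f.range.card_mul_index
  rw [GW.card_SL3_two] at c2
  have c3 := ((centralizer {z}).subgroupOf (normalizer (V : Set G))).card_mul_index
  rw [Nat.card_congr (subgroupOfEquivOfLe hC).toEquiv, hc] at c3
  have c4 : ((centralizer {z}).subgroupOf (normalizer (V : Set G))).index ≠ 1 := fun h =>
    hr' (mem_subgroupOf.1 ((index_eq_one.1 h).ge (mem_top (⟨r, hr⟩ : normalizer (V : Set G)))))
  generalize ((centralizer {z}).subgroupOf (normalizer (V : Set G))).index = i at c3 c4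
  have c5 : i * f.range.index = 7 := by
    have : 192 * i * f.range.index = 8 * 168 := by rw [c3, ← c1, ← c2, mul_assoc]
    linarith [mul_assoc 192 i f.range.index]
  have c6 : f.range.index = 1 := by
    rcases (Nat.dvd_prime (by decide : Nat.Prime 7)).1 (Dvd.intro _ c5) with h | h
    · exact absurd h c4
    · rw [h] at c5; omega
  rw [c6] at c2 c5
  exact ⟨by omega, f, MonoidHom.range_eq_top.1 (index_eq_one.1 c6), k⟩

theorem caseV {V : Subgroup G} {r w : G} (z1 : z ≠ 1) (hz : z ∈ V) (hV2 : ∀ v ∈ V, v * v = 1) (h8 : Nat.card V = 8)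
    (hC : centralizer {z} ≤ normalizer (V : Set G)) (hc : Nat.card (centralizer ({z} : Set G)) = 192)
    (hcV : centralizer (V : Set G) ≤ V) (hr : r ∈ normalizer (V : Set G)) (hr' : r ∉ centralizer {z})
    (tr : ∀ v ∈ V, v ≠ 1 → ∃ k ∈ normalizer (V : Set G), κ k z = v) (fus : ∀ u ∈ centralizer {z}, IsConj z u → u ∈ V)
    (hw : w ∈ centralizer {z}) (w2 : w * w = 1) (hwV : w ∉ V) : CaseV G := by
  obtain ⟨c, f, f1, f2⟩ := normV hV2 h8 hC hc hcV hr hr'
  have oz := Invol.orderOf_two_iff.2 ⟨hV2 z hz, z1⟩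
  have two : ∀ u, IsConj z u → orderOf u = 2 := fun u hu => (Invol.orderOf_of_isConj hu).symm.trans oz
  obtain ⟨P, h1, h2⟩ := pc_of oz hC (fun u hu hz => by
    obtain ⟨g, hg, h⟩ := into hc hC (by rw [c]; decide) hu (Invol.mul_self_of (two u hz))
    exact tr u ((mem_normalizer_iff.1 hg u).2 (fus _ h (hz.trans (isConj_cj g u)))) (Invol.ne_one_of (two u hz)))
    fun w hw hz' ne => by
      obtain ⟨k, -, h⟩ := tr _ (mul_mem hz (fus w hw hz')) fun h =>
        ne ((eq_inv_of_mul_eq_one_right h).trans (inv_of_sq (hV2 z hz)))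
      exact h ▸ isConj_cj k z
  have T : normalizer (V : Set G) = ⊤ := top_le_iff.1 fun g _ => by
    by_contra hg
    have hz0 : z ∈ {u | IsConj z u} := IsConj.refl z
    have se := P.se hz0 h1 (isConj_cj g z) (h2 g hg)
    have loc := fun t => P.loc (t := t) hz0 h1 (isConj_cj g z) (h2 g hg)
    set Y := closure {u | IsConj z u}
    haveI : Y.Normal := ⟨fun n hn g => by
      have : Y.map (κ g).toMonoidHom ≤ Y := by
        rw [MonoidHom.map_closure, closure_le]
        rintro _ ⟨u, hu, rfl⟩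
        exact subset_closure (IsConj.trans hu (isConj_cj g u))
      exact this ⟨n, hn, rfl⟩⟩
    have VY : V ≤ Y := fun v hv => by
      rcases eq_or_ne v 1 with rfl | h
      · exact one_mem _
      · obtain ⟨k, -, h⟩ := tr v hv h
        exact subset_closure (show IsConj z v from h ▸ isConj_cj k z)
    have st : MulAction.stabilizer G ((1 : G) : G ⧸ normalizer (V : Set G)) = normalizer (V : Set G) :=
      MulAction.stabilizer_quotient _
    rw [st] at se
    have := GW.isSimpleGroup_SL3_two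
    rcases ((inferInstance : (Y.subgroupOf (normalizer (V : Set G))).Normal).map f f1).eq_bot_or_eq_top with h | h
    · obtain ⟨s, hs, s1, sz⟩ : ∃ s ∈ V, s ≠ 1 ∧ s ≠ z := by
        by_contra hn
        push Not at hn
        have := Set.ncard_le_ncard (s := (V : Set G)) (t := {1, z}) (fun s hs => by
          rcases eq_or_ne s 1 with h | h
          exacts [.inl h, .inr (hn s hs h)])
        have h' := Set.ncard_insert_le (1 : G) {z}
        rw [Set.ncard_singleton] at h'
        rw [← Nat.card_coe_set_eq, show Nat.card (V : Set G) = 8 from h8] at this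
        omega
      obtain ⟨u, u1, u2⟩ := Invol.SE.exists_invol_not_mem se
      obtain ⟨k, hk, -, e⟩ := Invol.SE.exists_conj_inverted se u1 u2 (s := ⟨z, VY hz⟩) (t := ⟨s, VY hs⟩)
        (le_normalizer hz) (by rw [← orderOf_coe]; exact oz) (le_normalizer hs)
        (by rw [← orderOf_coe]; exact Invol.orderOf_two_iff.2 ⟨hV2 s hs, s1⟩)
      have := (f2 ⟨k, hk⟩).1 (mem_bot.1 (h ▸ mem_map_of_mem f (show (⟨k, hk⟩ : normalizer (V : Set G)) ∈
        Y.subgroupOf _ from k.2)))
      have e' : κ (k : G) z = s := congrArg Subtype.val e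
      exact sz (e'.symm.trans (cj_eq.2 (Invol.commute_of_mul_sq (hV2 _ this) (hV2 z hz) (hV2 _ (mul_mem this hz))).eq))
    · obtain ⟨k, hk, e⟩ : f ⟨w, hC hw⟩ ∈ (Y.subgroupOf (normalizer (V : Set G))).map f := h ▸ mem_top _
      have := VY ((f2 (k⁻¹ * ⟨w, hC hw⟩)).1 (by rw [map_mul, map_inv, e, inv_mul_cancel]))
      have := mul_mem (mem_subgroupOf.1 hk) this
      simp only [coe_mul, coe_inv, mul_inv_cancel_left] at this
      exact hwV (fus w hw (loc w this (Invol.orderOf_two_iff.2 ⟨w2, fun h => hwV (h ▸ one_mem _)⟩)))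
  haveI N : V.Normal := normalizer_eq_top_iff.1 T
  obtain ⟨e⟩ := sl_psl
  let f' := f.comp ((MonoidHom.id G).codRestrict (normalizer (V : Set G)) fun g => T ▸ mem_top g)
  have k : V = f'.ker := Subgroup.ext fun g => (f2 ⟨g, T ▸ mem_top g⟩).symm
  exact ⟨V, N, LES.abelian_of_sq hV2, fun n hn => (pow_two n).trans (hV2 n hn), h8,
    ⟨(QuotientGroup.quotientMulEquivOfEq k).trans ((QuotientGroup.quotientKerEquivOfSurjective f'
      fun y => let ⟨g, hg⟩ := f1 y; ⟨g, hg⟩).trans e)⟩⟩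

/-- If `z` is the only involution of `C(x) ∩ C(z) < C(x)` and `t` inverts `x` and centralises `z`, then `t` or `t z`
centralises an involution of `C(x)` other than `z`. -/
theorem midpoint {x t k : G} (zz : z * z = 1) (z1 : z ≠ 1) (tt : t * t = 1) (tx : κ t x = x⁻¹)
    (xz : Commute x z) (un : ∀ h ∈ centralizer {z}, h * x = x * h → h * h = 1 → h = 1 ∨ h = z) (hk : Commute k x)
    (hk' : k ∉ centralizer {z}) : ∃ y, y * y = 1 ∧ y ≠ 1 ∧ y ≠ z ∧ Commute y x ∧ (Commute y t ∨ Commute y (t * z)) := by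
  have un' : ∀ g h, (κ g x = x ∨ κ g x = x⁻¹) → Commute h (κ g z) → Commute h x → orderOf h = 2 → h = κ g z :=
    fun g h hg h1 h2 h3 => by
    obtain ⟨h, rfl⟩ := (κ g).surjective h
    have h4 : Commute (κ g h) (κ g x) := by
      rcases hg with e | e <;> rw [e]
      exacts [h2, h2.inv_right]
    rcases un h (memC.2 (cj_comm.1 h1)) (cj_comm.1 h4) (cj_one.1 (by rw [map_mul]; exact Invol.mul_self_of h3))
      with e | e
    · rw [e, map_one, orderOf_one] at h3; omega
    · rw [e]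
  have kx := cj_eq.2 hk.eq
  have a1 : Commute (κ k z) x := by rw [← kx]; exact cj_comm.2 xz.symm.eq
  have tkx : κ (t * k) x = x⁻¹ := by rw [cj_mul, kx, tx]
  have a2 : Commute (κ (t * k) z) x := by
    have : Commute (κ (t * k) z) (κ (t * k) x) := cj_comm.2 xz.symm.eq
    rw [tkx] at this; exact Commute.inv_right_iff.1 this
  have ne : κ k z ≠ z := fun h => hk' (memC.2 (cj_eq.1 h))
  have o1 : κ k z ≠ 1 := fun h => z1 (cj_one.1 h)
  have s1 : κ k z * κ k z = 1 := cj_sq zz
  have s2 : κ (t * k) z * κ (t * k) z = 1 := cj_sq zz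
  have t1 : κ t (κ k z) = κ (t * k) z := (cj_mul _ _ _).symm
  have t2 : κ t (κ (t * k) z) = κ k z := by rw [← cj_mul, ← mul_assoc, tt, one_mul]
  rcases Nat.even_or_odd (orderOf (κ k z * κ (t * k) z)) with h | ⟨j, hj⟩
  · obtain ⟨b1, b2, b3⟩ := Invol.half_pow_spec s1 s2 h
    have b4 := (a1.mul_left a2).pow_left (orderOf (κ k z * κ (t * k) z) / 2)
    have := (un' k _ (.inl kx) b2 b4 b1).symm.trans (un' (t * k) _ (.inr tkx) b3 b4 b1)
    rw [← this, s1, orderOf_one] at h
    exact absurd h (by decide)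
  · generalize κ k z = p at *
    generalize κ (t * k) z = q at *
    have i1 := Invol.conj_prod_left s1 s2
    have n1 : (p * q) ^ (j + 1) * (p * q) ^ j = 1 := by
      rw [← pow_add, show j + 1 + j = 2 * j + 1 by ring, ← hj, pow_orderOf_eq_one]
    have i2 : ∀ m : ℕ, p * (p * q) ^ m = ((p * q) ^ m)⁻¹ * p := fun m => by
      rw [← Invol.conj_pow_of_inverts i1 m]; group
    have y2 : p * (p * q) ^ (j + 1) * (p * (p * q) ^ (j + 1)) = 1 := by
      nth_rw 2 [i2]; rw [mul_assoc, mul_inv_cancel_left, s1]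
    have y3 : κ (p * (p * q) ^ (j + 1)) p = q := by
      have hq := Invol.mul_self_cancel s1 q
      generalize p * q = n at i2 n1 hq ⊢
      rw [cj_eq, ← hq, i2 (j + 1), inv_eq_of_mul_eq_one_right n1, mul_assoc _ p p, s1, mul_one, ← mul_assoc,
        mul_assoc p, ← pow_succ', i2, inv_eq_of_mul_eq_one_right n1, mul_assoc, s1, mul_one]
    have y4 : κ t (p * (p * q) ^ (j + 1)) = p * (p * q) ^ (j + 1) := by
      rw [map_mul, map_pow, map_mul, t1, t2, show q * p = (p * q)⁻¹ by rw [mul_inv_rev, inv_of_sq s1, inv_of_sq s2],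
        inv_pow, inv_eq_of_mul_eq_one_right n1, pow_succ', ← mul_assoc p, Invol.mul_self_cancel s1]
    rcases eq_or_ne (p * (p * q) ^ (j + 1)) z with e | e
    · refine ⟨p, s1, o1, ne, a1, .inr (cj_eq.1 ?_).symm⟩
      rw [cj_mul, ← e, y3, t2]
    · refine ⟨_, y2, fun h => ?_, e, a1.mul_left ((a1.mul_left a2).pow_left _), .inl (cj_eq.1 y4).symm⟩
      rw [h, map_one] at y3
      rw [← show p = q from y3, s1, one_pow, mul_one] at h
      exact o1 h

/-- A self-centralising (among 3-elements) element of order three generates a Sylow 3-subgroup. -/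
theorem conj_of_self {x r : G} (x3 : x * x * x = 1) (x1 : x ≠ 1) (r3 : r * r * r = 1) (r1 : r ≠ 1)
    (h : ∀ k, Commute k x → (∃ n, k ^ 3 ^ n = 1) → k = 1 ∨ k = x ∨ k = x⁻¹) : ∃ g, κ g r = x ∨ κ g r = x⁻¹ := by
  haveI := Fact.mk Nat.prime_three
  have p : ∀ u : G, u * u * u = 1 → u ^ 3 ^ 1 = 1 := fun u hu => by rw [pow_one, pow_three', hu]
  obtain ⟨S, hS⟩ := (Invol.isPGroup_zpowers (p x x3)).exists_le_sylow
  have hx := hS (mem_zpowers x)
  haveI : Nontrivial S := ⟨⟨⟨x, hx⟩, 1, fun e => x1 (congrArg Subtype.val e)⟩⟩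
  haveI := S.isPGroup'.center_nontrivial
  obtain ⟨⟨c, hc⟩, c1⟩ := exists_ne (1 : center S)
  have pw : ∀ u ∈ S, ∃ n, u ^ 3 ^ n = 1 := fun u hu =>
    let ⟨n, hn⟩ := S.isPGroup' ⟨u, hu⟩; ⟨n, congrArg Subtype.val hn⟩
  have cm : ∀ u ∈ S, Commute u (c : G) := fun u hu => congrArg Subtype.val (mem_center_iff.1 hc ⟨u, hu⟩)
  obtain ⟨g, hg⟩ := Invol.exists_conj_mem_sylow (p r r3) S
  refine ⟨g, (h _ ?_ (pw _ hg)).resolve_left fun e => r1 (cj_one.1 e)⟩
  rcases h c (cm x hx).symm (pw _ c.2) with e | e | e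
  · exact absurd (Subtype.ext (Subtype.ext e)) c1
  · exact e ▸ cm _ hg
  · exact Commute.inv_right_iff.1 (e ▸ cm _ hg)

end Cfsg.Agent.M12R
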