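import Cfsg.Agent.M12R.Rho
import Cfsg.Agent.Spor.J.M12m
import Cfsg.Agent.Spor.Act6
import Cfsg.Agent.Golay.Mathieu
import Cfsg.Agent.Comp.Class

/-! The amalgam inside `M12` (helper28): `Loc.of_rels`, `Loc.map`, `hom12` (completions of the amalgam are images of
`M12`), `exists_loc12`. -/

set_option autoImplicit false
set_option maxRecDepth 100000

namespace Cfsg.Agent.M12R

open Cfsg.Agent.Comp Cfsg.Agent.Spor Cfsg.Agent.HJ Subgroup Cfsg.Agent.Golay

variable {G : Type*} [Group G]

theorem Loc.of_rels {g : ℕ → G} (hg : ∀ r ∈ JM12h.rels, ev g r = 1) (cen : centralizer {g 11} ≤ genL g (List.range 12))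
    (card : Nat.card (centralizer ({g 11} : Set G)) = 192) : Loc (g 0) (g 2) (g 4) (g 6) (g 8) (g 10) (g 11) := by
  simp only [JM12h.rels, List.forall_mem_cons, ev_cons, ev_nil, one_mul] at hg
  obtain ⟨-, -, i0, -, i2, -, i4, -, i6, -, i8, tt, zz, aa, bb, cc, dd, ab, cd, ac, ad, bc, bd, xxx, -, -, -, -, -, tz,
    xa, xb, xc, xd, tx, ta, tb, tc, td, -⟩ := hg
  replace i0 := eq_inv_of_mul_eq_one_right i0
  replace i2 := eq_inv_of_mul_eq_one_right i2
  replace i4 := eq_inv_of_mul_eq_one_right i4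
  replace i6 := eq_inv_of_mul_eq_one_right i6
  replace i8 := eq_inv_of_mul_eq_one_right i8
  simp only [i0, i2, i4, i6, i8] at ab cd ac ad bc bd xa xb xc xd
  have Z : ∀ {p : G}, p * g 11 = 1 → p = g 11 := fun h => (eq_inv_of_mul_eq_one_left h).trans (inv_of_sq zz)
  have C : ∀ {p q : G}, p * q * p⁻¹ * q⁻¹ = 1 → Commute p q := fun h => cj_eq.1 (mul_inv_eq_one.1 h)
  have T : ∀ {p q : G}, g 10 * p * g 10 * q = 1 → κ (g 10) p = q⁻¹ := fun h => by
    rw [MulAut.conj_apply, inv_of_sq tt]; exact eq_inv_of_mul_eq_one_left h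
  refine ⟨⟨Z aa, Z bb, Z cc, Z dd, zz, Z ab, Z cd, C ac, C ad, C bc, C bd, xxx,
    (C (by rwa [inv_of_sq tt, inv_of_sq zz])).symm, mul_inv_eq_one.1 xa,
    mul_inv_eq_iff_eq_mul.1 (mul_inv_eq_one.1 xb), mul_inv_eq_one.1 xc, mul_inv_eq_iff_eq_mul.1 (mul_inv_eq_one.1 xd),
    T tx, fun K h0 h2 h4 h6 h8 h10 => cen.trans (genL_le fun i hi => ?_), card⟩, tt, T ta,
    T ((mul_assoc _ _ _).symm.trans tb), T tc, T ((mul_assoc _ _ _).symm.trans td)⟩
  have := List.mem_range.1 hi
  interval_cases i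
  exacts [h0, i0 ▸ inv_mem h0, h2, i2 ▸ inv_mem h2, h4, i4 ▸ inv_mem h4, h6, i6 ▸ inv_mem h6, h8, i8 ▸ inv_mem h8, h10,
    Z aa ▸ mul_mem h0 h0]

theorem Loc.map [Finite G] {a b c d x t z : G} (L : Loc a b c d x t z) {G' : Type*} [Group G'] {s : G'} (s1 : s ≠ 1)
    (e : centralizer ({z} : Set G) ≃* centralizer ({s} : Set G')) : ∃ a b c d x t, Loc a b c d x t s := by
  have cen := L.cen (n := 12) le_rfl (fun _ _ => rfl) fun _ h h' => absurd h (not_lt.2 h')
  have m : ∀ i, lets a b c d x t z i ∈ centralizer {z} := fun i => by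
    rcases lt_or_ge i 12 with h | h
    exacts [cen ▸ mem_genL _ (List.mem_range.2 h), (lets_ge a b c d x t z i h).symm ▸ one_mem _]
  let u : ℕ → centralizer ({z} : Set G) := fun i => ⟨_, m i⟩
  let φ := (centralizer ({s} : Set G')).subtype.comp e.toMonoidHom
  have hz : φ (u 11) = s := by
    obtain ⟨y, hy⟩ := e.surjective ⟨s, memC.2 rfl⟩
    have c : ∀ i, (y : G) * u i = u i * y := fun i => congrArg Subtype.val (e.injective (show e (y * u i) = e (u i * y) by
      rw [map_mul, map_mul, hy]; exact Subtype.ext (memC.1 (e (u i)).2).symm))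
    have h1 := L.cx y y.2 (c 8)
    have h2 := (L.cs y y.2 (Commute.mul_right (c 0) (c 4)).eq).2 (c 0)
      (Commute.mul_right (Commute.mul_right (c 10) (c 2)) (c 6)).eq
      (Commute.mul_right (Commute.mul_right (c 2) (c 4)) (c 6)).eq
    have h3 : (y : G) * y = 1 := by
      rcases h2 with h | h | h | h <;> rw [h]
      exacts [one_mul _, L.zz, L.ss, by rw [← pow_two, (Commute.symm L.sz).mul_pow, pow_two, pow_two, L.zz, L.ss, one_mul]]
    rcases h1.1 h3 with h | h
    · rw [show y = 1 from Subtype.ext h, map_one] at hy; exact absurd (congrArg Subtype.val hy).symm s1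
    · rw [show u 11 = y from Subtype.ext h.symm]; exact congrArg Subtype.val hy
  have top : genL u (List.range 12) = ⊤ := top_le_iff.1 ((map_le_map_iff_of_injective (subtype_injective _)).1 (by
    rw [map_genL', ← MonoidHom.range_eq_map, range_subtype]; exact cen.ge))
  have := Loc.of_rels (g := fun i => φ (u i)) (fun r hr => by
    rw [← map_ev, show ev u r = 1 from Subtype.ext ((map_ev (centralizer {z}).subtype u r).trans (L.rels r hr)), map_one])
    (by rw [← map_genL', top, hz]
        exact fun y hy => ⟨e.symm ⟨y, hy⟩, mem_top _, by simp [φ]⟩)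
    (by rw [hz, ← Nat.card_congr e.toEquiv, L.card])
  exact ⟨_, _, _, _, _, _, hz ▸ this⟩

/-- The code of a word. -/
def evC (mul : ℕ → ℕ → ℕ) (one : ℕ) (L : List ℕ) (w : List ℕ) : ℕ :=
  List.rec (motive := fun _ => ℕ) one (fun x _ ih => force ih fun p => mul p (nthL one L x)) w

theorem evC_spec {R : ℕ → G → Prop} {mul : ℕ → ℕ → ℕ} {inv : ℕ → ℕ} {one : ℕ} (hG : IsGrp R mul inv one) {L : List ℕ}
    {u : ℕ → G} (hu : ∀ i, R (nthL one L i) (u i)) (w : List ℕ) : R (evC mul one L w) (ev u w) := by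
  induction w with
  | nil => exact hG.one
  | cons x w ih =>
    have : evC mul one L (x :: w) = mul (evC mul one L w) (nthL one L x) :=
      force_eq (evC mul one L w) fun p => mul p (nthL one L x)
    rw [this]; exact hG.mul ih (hu x)

theorem ev_of_codes {R : ℕ → G → Prop} {mul : ℕ → ℕ → ℕ} {inv : ℕ → ℕ} {one : ℕ} (hG : IsGrp R mul inv one)
    (hC : IsCanon R) {L : List ℕ} {u : ℕ → G} (hu : ∀ i, R (nthL one L i) (u i)) {ws : List (List ℕ)}
    (h : Comp.allL ws (fun w => Nat.beq (evC mul one L w) one) = true) : ∀ w ∈ ws, ev u w = 1 := fun w hw =>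
  (hC.eq_iff (evC_spec hG hu w) hG.one).2 (nbeq.1 (Comp.allL_iff.1 h w hw))

theorem up0 {g : ℕ → G} (he : g 255 = 1) (hg : ∀ r ∈ JM12h.rels, ev g r = 1) : CardLe (genL g (List.range 12)) 192 :=
  cardLe_bot.of_relIndex (JM12h.relIndex_le he hg fun _ h => nomatch h)

theorem subs12 (g : ℕ → G) : ∀ w ∈ [[0], [2], [4], [6], [8], [10], [11]], ev g w ∈ genL g (List.range 12) :=
  fun _ hw => genW_le_genL (by decide) (mem_genW g hw)

theorem up12 {g : ℕ → G} (he : g 255 = 1) (hg : ∀ r ∈ JM12m.rels, ev g r = 1) :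
    CardLe (genL g (List.range 14)) 95040 :=
  (up0 he (rels_of_sub hg (by decide +kernel))).of_relIndex (JM12m.relIndex_le he hg (subs12 g))

/-- The codes of the letters in `M12`. -/
def LM : List ℕ := [608405391266436187982588441666881568, 609271311764373893382231684089481248,
  232652365823391711183829569059784736, 227578386318009578406903204956702752, 982250884396962498574165580454068322,
  983116567191296540113908308675428450, 980460995170761438563047119441101891, 975151252460776881860753093258380355,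
  731722996265023435542964160459476032, 235742061483406767849477376128910432, 983549310955746530506231437997410400,
  970499966350631336865513127433832480, 309638398611822668171529866975908108, 470535627185775815743309399734929613]

theorem model : ∃ u : ℕ → Cfsg.Spor.M12, u 255 = 1 ∧ (∀ r ∈ JM12m.rels, ev u r = 1) ∧ genL u (List.range 14) = ⊤ ∧
    Nat.card (centralizer ({u 11} : Set Cfsg.Spor.M12)) ≤ 192 := by
  let hG := isGrp_CRep EG par24 (G := Equiv.Perm GolayPt)
  let hC := isCanon_CRep EG par24 (G := Equiv.Perm GolayPt)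
  have hL : CodesIn R24 LM Cfsg.Spor.M12 := codes12 (by decide +kernel)
  have hL' := hL.toCRep (by decide +kernel)
  obtain ⟨x, h1, h2⟩ := hG.exists_elts hL'
  let u : ℕ → Cfsg.Spor.M12 := fun i => ⟨x i, h1 i⟩
  refine ⟨u, Subtype.ext ((hC.eq_iff (h2 255) hG.one).2 rfl),
    ev_of_codes (hG.subgroup _) (hC.subgroup _) (u := u) h2 (by decide +kernel), ?_, ?_⟩
  · refine top_le_iff.1 ((map_le_map_iff_of_injective (subtype_injective _)).1 ?_)
    rw [map_genL', ← MonoidHom.range_eq_map, range_subtype]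
    refine closure_L12.ge.trans ((closure_le _).2 ?_)
    rintro g ⟨c, hc, hg⟩
    obtain ⟨w, hw, rfl⟩ := List.mem_map.1 ((by decide +kernel : L12 = [[0], [3], [12, 8, 12, 8, 13, 9, 12, 7],
      [9, 12, 8, 12, 9, 13, 8, 13, 9, 12, 8, 1], [9, 12, 9, 6, 13, 9, 12, 8, 13, 8, 12],
      [13, 9, 13, 9, 12, 8, 13, 1]].map (evC mul24 one24 LM)) ▸ hc)
    have := evC_spec hG h2 w
    exact hC.func this ⟨hg, this.2⟩ ▸ genW_le_genL (by decide) (mem_genW x hw)
  · have := card_centralizer_le (isGrp_CRep EG par24) (isCanon_CRep EG par24) (hL'.of_subset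
      (L' := [731722996265023435542964160459476032, 309638398611822668171529866975908108]) (by decide +kernel)) (h2 11)
      (fun a => a % 14397) 500
      card_M12 (a := 495) (b := 192) (by norm_num) (by norm_num) (by decide +kernel)
    refine le_trans (Nat.card_le_card_of_injective (fun y => (⟨y.1.1, y.1.2, memC.2 (congrArg Subtype.val
      (memC.1 y.2))⟩ : ↥(Cfsg.Spor.M12 ⊓ centralizer {x 11}))) fun y y' h => Subtype.ext (Subtype.ext
        (Subtype.mk.inj h))) this

theorem hom12 {g : ℕ → G} (he : g 255 = 1) (hg : ∀ r ∈ JM12m.rels, ev g r = 1) (h1 : g 11 ≠ 1) :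
    Nonempty (genL g (List.range 14) ≃* Cfsg.Spor.M12) := by
  obtain ⟨u, u1, u2, u3, -⟩ := model
  obtain ⟨ρ, k1, k2⟩ := exists_hom_of_up u3 card_M12 (up12 (prG_255 u1 he) (prG_rels u2 hg))
  have := simple_M12
  have hi : Function.Injective ρ := (MonoidHom.ker_eq_bot_iff ρ).1 ((ρ.normal_ker.eq_bot_or_eq_top).resolve_right
    fun e => h1 (by rw [← k1 11 (by decide), ← MonoidHom.mem_ker, e]; trivial))
  exact ⟨(MulEquiv.subgroupCongr k2).symm.trans (MonoidHom.ofInjective hi).symm⟩

theorem exists_loc12 : ∃ a b c d x t z : Cfsg.Spor.M12, Loc a b c d x t z := by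
  obtain ⟨u, u1, u2, u3, u4⟩ := model
  have h0 : ∀ r ∈ JM12h.rels, ev u r = 1 := rels_of_sub u2 (by decide +kernel)
  have h1 := (JM12m.relIndex_le u1 u2 (subs12 u)).2
  rw [u3, relIndex_top_right] at h1
  have h2 := (genL u (List.range 12)).card_mul_index
  rw [card_M12] at h2
  have h3 : 192 ≤ Nat.card (genL u (List.range 12)) := by nlinarith
  have h4 : genL u (List.range 12) ≤ centralizer {u 11} := by
    have k : ∀ i j, [j, i] ∈ JM12h.rels → [j, 11, i, 11] ∈ JM12h.rels →
        u i ∈ centralizer {u 11} ∧ u j ∈ centralizer {u 11} := fun i j h h' => by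
      have e1 : 1 * u i * u j = 1 := h0 _ h
      have e2 : 1 * u 11 * u i * u 11 * u j = 1 := h0 _ h'
      have e3 : 1 * u 11 * u 11 = 1 := h0 [11, 11] (by decide)
      simp only [one_mul] at e1 e2 e3
      rw [eq_inv_of_mul_eq_one_right e1] at e2 ⊢
      have : u i ∈ centralizer {u 11} :=
        memC.2 (cj_eq.1 (by rw [MulAut.conj_apply, inv_of_sq e3]; exact mul_inv_eq_one.1 e2)).symm
      exact ⟨this, inv_mem this⟩
    refine genL_le fun i hi => ?_
    have := List.mem_range.1 hi
    interval_cases i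
    exacts [(k 0 1 (by decide) (by decide)).1, (k 0 1 (by decide) (by decide)).2, (k 2 3 (by decide) (by decide)).1,
      (k 2 3 (by decide) (by decide)).2, (k 4 5 (by decide) (by decide)).1, (k 4 5 (by decide) (by decide)).2,
      (k 6 7 (by decide) (by decide)).1, (k 6 7 (by decide) (by decide)).2, (k 8 9 (by decide) (by decide)).1,
      (k 8 9 (by decide) (by decide)).2, (k 10 10 (by decide) (by decide)).1, memC.2 rfl]
  have h5 := eq_of_le_of_card_ge h4 (u4.trans h3)
  exact ⟨_, _, _, _, _, _, _, Loc.of_rels h0 h5.ge (le_antisymm u4 (h5 ▸ h3))⟩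

end Cfsg.Agent.M12R
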