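import Cfsg.Agent.M12R.Tab

/-! The centraliser `C(z) = 2^{1+4}:S3` with standard generators (helper28): `Pre` (the part common to the four groups),
`Loc` (the group occurring in `M12`), `Loc.swap`, `Loc.twist`, facts proved by reflection (`Loc.dec`). -/

set_option autoImplicit false
set_option maxRecDepth 100000

namespace Cfsg.Agent.M12R

open Cfsg.Agent.Comp Cfsg.Agent.Spor Cfsg.Agent.HJ Subgroup

variable {G : Type*} [Group G]

/-- Conjugation. -/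
scoped notation "κ" => MulAut.conj

theorem cj_mul (g h p : G) : κ (g * h) p = κ g (κ h p) := by simp [mul_assoc]
theorem cj_eq {g p q : G} : κ g p = q ↔ g * p = q * g := mul_inv_eq_iff_eq_mul
theorem cj_inj {g p q : G} : κ g p = κ g q ↔ p = q := (κ g).injective.eq_iff
theorem cj_one {g p : G} : κ g p = 1 ↔ p = 1 := (κ g).map_eq_one_iff
theorem cj_comm {g p q : G} : κ g p * κ g q = κ g q * κ g p ↔ p * q = q * p := by
  rw [← map_mul, ← map_mul, cj_inj]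
theorem cj_inv {g p q : G} (h : κ g p = q) : κ g⁻¹ q = p := by rw [← h, ← cj_mul, inv_mul_cancel, map_one]; rfl
theorem cj_cancel (g p : G) : κ g (κ g⁻¹ p) = p := by simp [mul_assoc]
theorem memC {h z : G} : h ∈ centralizer {z} ↔ h * z = z * h := mem_centralizer_singleton_iff
theorem inv_of_sq {t : G} (h : t * t = 1) : t⁻¹ = t := inv_eq_of_mul_eq_one_right h
theorem isConj_cj (g p : G) : IsConj p (κ g p) := isConj_iff.2 ⟨g, rfl⟩
theorem isConj_of {k p q : G} (h : k * p = q * k) : IsConj p q := cj_eq.2 h ▸ isConj_cj k p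
theorem cj_sq {g p : G} (h : p * p = 1) : κ g p * κ g p = 1 := by rw [← map_mul, h, map_one]
theorem comm_of_sq {a z : G} (h : a * a = z) : Commute a z := h ▸ (Commute.refl a).mul_right (.refl a)

/-- The letters. -/
def lets (a b c d x t z : G) : ℕ → G :=
  scons a <| scons a⁻¹ <| scons b <| scons b⁻¹ <| scons c <| scons c⁻¹ <| scons d <| scons d⁻¹ <| scons x <|
    scons x⁻¹ <| scons t <| scons z fun _ => 1

theorem lets_ge (a b c d x t z : G) (i : ℕ) (hi : 12 ≤ i) : lets a b c d x t z i = 1 := by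
  obtain ⟨k, rfl⟩ := Nat.exists_eq_add_of_le' hi; rfl

/-- `C(z)` is generated by two commuting quaternion groups `⟨a, b⟩`, `⟨c, d⟩`, `x` of order three and `t`. -/
structure Pre (a b c d x t z : G) : Prop where
  aa : a * a = z
  bb : b * b = z
  cc : c * c = z
  dd : d * d = z
  zz : z * z = 1
  ab : a * b * a⁻¹ * b⁻¹ = z
  cd : c * d * c⁻¹ * d⁻¹ = z
  ac : Commute a c
  ad : Commute a d
  bc : Commute b c
  bd : Commute b d
  xxx : x * x * x = 1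
  tz : Commute t z
  xa : κ x a = b
  xb : κ x b = a * b
  xc : κ x c = d
  xd : κ x d = c * d
  tx : κ t x = x⁻¹
  gen : ∀ K : Subgroup G, a ∈ K → b ∈ K → c ∈ K → d ∈ K → x ∈ K → t ∈ K → centralizer {z} ≤ K
  card : Nat.card (centralizer ({z} : Set G)) = 192

/-- The group of type `M12`. -/
structure Loc (a b c d x t z : G) : Prop extends Pre a b c d x t z where
  tt : t * t = 1
  ta : κ t a = a⁻¹
  tb : κ t b = (a * b)⁻¹
  tc : κ t c = c⁻¹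
  td : κ t d = (c * d)⁻¹

namespace F
/-- letters as terms -/
abbrev a : Tm := .g 0
abbrev A : Tm := .g 1
abbrev b : Tm := .g 2
abbrev B : Tm := .g 3
abbrev c : Tm := .g 4
abbrev C : Tm := .g 5
abbrev d : Tm := .g 6
abbrev D : Tm := .g 7
abbrev x : Tm := .g 8
abbrev X : Tm := .g 9
abbrev t : Tm := .g 10
abbrev z : Tm := .g 11
abbrev u : Tm := .v 0
abbrev v : Tm := .v 1
abbrev w : Tm := .v 2
scoped infix:50 " ≐ " => Fm.eq
scoped infixr:35 " ⋏ " => Fm.and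
scoped infixr:30 " ⋎ " => Fm.or
scoped infixr:25 " ⟹ " => Fm.imp
/-- commute -/
abbrev cm (p q : Tm) : Fm := p * q ≐ q * p
/-- different -/
abbrev ne (p q : Tm) : Fm := .not (p ≐ q)
/-- in the four-group -/
abbrev inU (s p : Tm) : Fm := p ≐ 1 ⋎ p ≐ z ⋎ p ≐ s ⋎ p ≐ z * s
end F

/-- `h` lies in the four-group `⟨z, s⟩`. -/
abbrev InU (z s h : G) : Prop := h = 1 ∨ h = z ∨ h = s ∨ h = z * s

namespace Pre

variable {a b c d x t z : G} (L : Pre a b c d x t z)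
include L

theorem az : Commute a z := comm_of_sq L.aa
theorem bz : Commute b z := comm_of_sq L.bb
theorem cz : Commute c z := comm_of_sq L.cc
theorem dz : Commute d z := comm_of_sq L.dd
theorem xz : Commute x z := cj_eq.1 (by rw [← L.bb]; nth_rw 1 [L.bb]; rw [← L.aa, map_mul, L.xa])

theorem swap : Pre c d a b x t z :=
  ⟨L.cc, L.dd, L.aa, L.bb, L.zz, L.cd, L.ab, L.ac.symm, L.bc.symm, L.ad.symm, L.bd.symm, L.xxx, L.tz, L.xc, L.xd,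
    L.xa, L.xb, L.tx, fun K h1 h2 h3 h4 => L.gen K h3 h4 h1 h2, L.card⟩

omit L in
theorem ktz {p : G} (h : Commute p z) : κ (t * z) p = κ t p := by rw [cj_mul, cj_eq.2 h.symm.eq]

theorem twist : Pre a b c d x (t * z) z :=
  ⟨L.aa, L.bb, L.cc, L.dd, L.zz, L.ab, L.cd, L.ac, L.ad, L.bc, L.bd, L.xxx, L.tz.mul_left rfl, L.xa, L.xb,
    L.xc, L.xd, (ktz L.xz).trans L.tx, fun K h1 h2 h3 h4 h5 h6 => L.gen K h1 h2 h3 h4 h5 (by
      have := mul_mem h6 (L.aa ▸ mul_mem h1 h1 : z ∈ K)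
      rwa [mul_assoc, L.zz, mul_one] at this), L.card⟩

theorem cen {g : ℕ → G} {n : ℕ} (hn : 12 ≤ n) (h : ∀ i < 12, g i = lets a b c d x t z i)
    (h' : ∀ i < n, 12 ≤ i → g i ∈ centralizer {z}) : genL g (List.range n) = centralizer {z} := by
  have m : ∀ i < 12, lets a b c d x t z i ∈ genL g (List.range n) := fun i hi =>
    h i hi ▸ mem_genL _ (List.mem_range.2 (by omega))
  refine le_antisymm (genL_le fun i hi => ?_) (L.gen _ (m 0 (by decide)) (m 2 (by decide)) (m 4 (by decide))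
    (m 6 (by decide)) (m 8 (by decide)) (m 10 (by decide)))
  rcases lt_or_ge i 12 with k | k
  · rw [h i k, memC]
    interval_cases i
    exacts [L.az, L.az.inv_left, L.bz, L.bz.inv_left, L.cz, L.cz.inv_left, L.dz, L.dz.inv_left, L.xz, L.xz.inv_left,
      L.tz, rfl]
  · exact h' i (List.mem_range.1 hi) k

/-- The relators not involving `t`. -/
theorem rels0 : ∀ r ∈ [[], [0, 1], [1, 0], [2, 3], [3, 2], [4, 5], [5, 4], [6, 7], [7, 6], [8, 9], [9, 8], [11, 11],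
    [11, 0, 0], [11, 2, 2], [11, 4, 4], [11, 6, 6], [11, 3, 1, 2, 0], [11, 7, 5, 6, 4], [5, 1, 4, 0], [7, 1, 6, 0],
    [5, 3, 4, 2], [7, 3, 6, 2], [8, 8, 8], [1, 11, 0, 11], [3, 11, 2, 11], [5, 11, 4, 11], [7, 11, 6, 11],
    [9, 11, 8, 11], [3, 9, 0, 8], [1, 3, 9, 2, 8], [7, 9, 4, 8], [5, 7, 9, 6, 8]],
    ev (lets a b c d x t z) r = 1 := by
  have i1 : ∀ g : G, 1 * g⁻¹ * g = 1 := fun g => by simp
  have i2 : ∀ g : G, 1 * g * g⁻¹ = 1 := fun g => by simp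
  have s : ∀ {g : G}, g * g = z → 1 * g * g * z = 1 := fun h => by rw [one_mul, h, L.zz]
  have q : ∀ {g h : G}, g * h * g⁻¹ * h⁻¹ = z → 1 * g * h * g⁻¹ * h⁻¹ * z = 1 := fun h => by rw [one_mul, h, L.zz]
  have k : ∀ {g h : G}, Commute g h → 1 * g * h * g⁻¹ * h⁻¹ = 1 := fun h => by rw [one_mul, h.eq]; group
  have Z : ∀ {g : G}, Commute g z → 1 * z * g * z * g⁻¹ = 1 := fun h => by
    rw [one_mul, ← h.eq, mul_assoc _ z z, L.zz, mul_one, mul_inv_cancel]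
  have K : ∀ {p q : G}, κ x p = q → 1 * x * p * x⁻¹ * q⁻¹ = 1 := fun h => by rw [← h]; simp [mul_assoc]
  have K' : ∀ {p q : G}, κ x p = q * p → 1 * x * p * x⁻¹ * p⁻¹ * q⁻¹ = 1 := fun h => by
    rw [one_mul, ← MulAut.conj_apply, h]; group
  simp only [List.forall_mem_cons]
  exact ⟨rfl, i1 a, i2 a, i1 b, i2 b, i1 c, i2 c, i1 d, i2 d, i1 x, i2 x, (congrArg (· * z) (one_mul z)).trans L.zz,
    s L.aa, s L.bb, s L.cc, s L.dd, q L.ab, q L.cd, k L.ac, k L.ad, k L.bc, k L.bd,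
    (congrArg (· * x * x) (one_mul x)).trans L.xxx, Z L.az, Z L.bz, Z L.cz, Z L.dz, Z L.xz, K L.xa, K' L.xb, K L.xc,
    K' L.xd, by simp⟩

end Pre

namespace Loc

open F

variable {a b c d x t z : G} (L : Loc a b c d x t z)
include L

theorem swap : Loc c d a b x t z := ⟨L.toPre.swap, L.tt, L.tc, L.td, L.ta, L.tb⟩

theorem twist : Loc a b c d x (t * z) z :=
  ⟨L.toPre.twist, by rw [← pow_two, L.tz.mul_pow, pow_two, pow_two, L.tt, L.zz, one_mul], (Pre.ktz L.az).trans L.ta,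
    (Pre.ktz L.bz).trans L.tb, (Pre.ktz L.cz).trans L.tc, (Pre.ktz L.dz).trans L.td⟩

theorem rels : ∀ r ∈ JM12h.rels, ev (lets a b c d x t z) r = 1 := by
  have K : ∀ {p q : G}, κ t p = q⁻¹ → 1 * t * p * t * q = 1 := fun h => by
    rw [MulAut.conj_apply, inv_of_sq L.tt] at h; rw [one_mul, h, inv_mul_cancel]
  refine rels_of_sub (List.forall_mem_append.2 ⟨L.rels0, ?_⟩ : ∀ r ∈ _ ++ [[10, 10], [10, 11, 10, 11], [8, 10, 8, 10],
    [0, 10, 0, 10], [2, 0, 10, 2, 10], [4, 10, 4, 10], [6, 4, 10, 6, 10]], _) (by decide +kernel)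
  simp only [List.forall_mem_cons]
  refine ⟨(congrArg (· * t) (one_mul t)).trans L.tt, ?_, K L.tx, K L.ta, (mul_assoc _ a b).trans (K L.tb), K L.tc,
    (mul_assoc _ c d).trans (K L.td), by simp⟩
  change 1 * z * t * z * t = 1
  rw [one_mul, ← L.tz.eq, mul_assoc _ z z, L.zz, mul_one, L.tt]

variable [Finite G]

theorem reg : ∃ f, Reg (centralizer {z}) 192 T1.mu f ∧ Cor 192 f T1.gc (lets a b c d x t z) :=
  have e := L.cen (n := 12) le_rfl (fun _ _ => rfl) fun _ h h' => absurd h (not_lt.2 h')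
  e ▸ T1.exists_reg (lets_ge a b c d x t z) L.rels (by rw [e, L.card])

theorem dec (p : Fm) (h : p.dec 192 T1.mu T1.gc (fun _ => 0) = true) :
    p.sat (centralizer {z}) (lets a b c d x t z) fun _ => 1 :=
  let ⟨_, R, c⟩ := L.reg; R.sound c p h

theorem ss : a * c * (a * c) = 1 :=
  L.dec (.eq (.mul (.mul (.g 0) (.g 4)) (.mul (.g 0) (.g 4))) (.one)) (by decide +kernel)

theorem sz : a * c * z = z * (a * c) :=
  L.dec (.eq (.mul (.mul (.g 0) (.g 4)) (.g 11)) (.mul (.g 11) (.mul (.g 0) (.g 4)))) (by decide +kernel)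

theorem ww : b * c * d * (b * c * d) = 1 :=
  L.dec (.eq (.mul (.mul (.mul (.g 2) (.g 4)) (.g 6)) (.mul (.mul (.g 2) (.g 4)) (.g 6))) (.one)) (by decide +kernel)

theorem ee : a * d * (a * d) = 1 :=
  L.dec (.eq (.mul (.mul (.g 0) (.g 6)) (.mul (.g 0) (.g 6))) (.one)) (by decide +kernel)

theorem ez : a * d * z = z * (a * d) :=
  L.dec (.eq (.mul (.mul (.g 0) (.g 6)) (.g 11)) (.mul (.g 11) (.mul (.g 0) (.g 6)))) (by decide +kernel)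

theorem es : a * d * (a * c) = z * (a * c) * (a * d) :=
  L.dec (.eq (.mul (.mul (.g 0) (.g 6)) (.mul (.g 0) (.g 4))) (.mul (.mul (.g 11) (.mul (.g 0) (.g 4))) (.mul (.g 0)
    (.g 6)))) (by decide +kernel)

theorem as : a * (a * c) = a * c * a :=
  L.dec (.eq (.mul (.g 0) (.mul (.g 0) (.g 4))) (.mul (.mul (.g 0) (.g 4)) (.g 0))) (by decide +kernel)

theorem ts : t * (a * c) = a * c * t :=
  L.dec (.eq (.mul (.g 10) (.mul (.g 0) (.g 4))) (.mul (.mul (.g 0) (.g 4)) (.g 10))) (by decide +kernel)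

theorem ea : a * d * a = a * (a * d) :=
  L.dec (.eq (.mul (.mul (.g 0) (.g 6)) (.g 0)) (.mul (.g 0) (.mul (.g 0) (.g 6)))) (by decide +kernel)

theorem xs : x * (a * c) = b * d * x :=
  L.dec (.eq (.mul (.g 8) (.mul (.g 0) (.g 4))) (.mul (.mul (.g 2) (.g 6)) (.g 8))) (by decide +kernel)

theorem xs2 : x * (b * d * (a * c)) = a * c * x :=
  L.dec (.eq (.mul (.g 8) (.mul (.mul (.g 2) (.g 6)) (.mul (.g 0) (.g 4)))) (.mul (.mul (.g 0) (.g 4)) (.g 8))) (by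
    decide +kernel)

theorem nes : z ≠ 1 ∧ a * c ≠ 1 ∧ a * c ≠ z ∧ t ≠ 1 ∧ t ≠ z ∧ x ≠ 1 ∧ t * a ≠ a * t ∧ t * (t * b * d) ≠ t * b * d * t
    ∧ b * d * t ≠ t * (b * d) ∧ b * b ≠ 1 ∧ b * c * d ≠ 1 ∧ z * (a * c) ≠ z ∧ z * (a * c) ≠ a * c ∧ z * (a * c) ≠ 1 :=
  L.dec (.and (.not (.eq (.g 11) (.one))) (.and (.not (.eq (.mul (.g 0) (.g 4)) (.one))) (.and (.not (.eq (.mul (.g 0)
    (.g 4)) (.g 11))) (.and (.not (.eq (.g 10) (.one))) (.and (.not (.eq (.g 10) (.g 11))) (.and (.not (.eq (.g 8)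
    (.one))) (.and (.not (.eq (.mul (.g 10) (.g 0)) (.mul (.g 0) (.g 10)))) (.and (.not (.eq (.mul (.g 10) (.mul (.mul
    (.g 10) (.g 2)) (.g 6))) (.mul (.mul (.mul (.g 10) (.g 2)) (.g 6)) (.g 10)))) (.and (.not (.eq (.mul (.mul (.g 2)
    (.g 6)) (.g 10)) (.mul (.g 10) (.mul (.g 2) (.g 6))))) (.and (.not (.eq (.mul (.g 2) (.g 2)) (.one))) (.and (.not
    (.eq (.mul (.mul (.g 2) (.g 4)) (.g 6)) (.one))) (.and (.not (.eq (.mul (.g 11) (.mul (.g 0) (.g 4))) (.g 11)))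
    (.and (.not (.eq (.mul (.g 11) (.mul (.g 0) (.g 4))) (.mul (.g 0) (.g 4)))) (.not (.eq (.mul (.g 11) (.mul (.g 0)
    (.g 4))) (.one)))))))))))))))) (by decide +kernel)

theorem eq1 : b * (b * c * d) = b * c * d * b ∧ b * c * d * z = z * (b * c * d) ∧ c = a⁻¹ * (a * c) ∧ t * b * d⁻¹ * (t
    * d * b) = z * (a * c) ∧ a * d * (t * b * d) = d⁻¹ * b⁻¹ * t * a⁻¹ * (a * d) ∧ a * d * (d⁻¹ * b⁻¹ * t * a⁻¹) = t *
    b * d * (a * d) ∧ a * d * (b * c * d) = b * c * d * (a * d) ∧ b * d * t * (b * d * t) * (b * d * t * (b * d * t))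
    = 1 ∧ t = b * c * d * a * a * a * (t * b * d) ∧ b * c * d * (t * b * d) * (t * b * d) * (t * b * d) * (d⁻¹ * b⁻¹ *
    t * a⁻¹) = b * d :=
  L.dec (.and (.eq (.mul (.g 2) (.mul (.mul (.g 2) (.g 4)) (.g 6))) (.mul (.mul (.mul (.g 2) (.g 4)) (.g 6)) (.g 2)))
    (.and (.eq (.mul (.mul (.mul (.g 2) (.g 4)) (.g 6)) (.g 11)) (.mul (.g 11) (.mul (.mul (.g 2) (.g 4)) (.g 6))))
    (.and (.eq (.g 4) (.mul (.g 1) (.mul (.g 0) (.g 4)))) (.and (.eq (.mul (.mul (.mul (.g 10) (.g 2)) (.g 7)) (.mul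
    (.mul (.g 10) (.g 6)) (.g 2))) (.mul (.g 11) (.mul (.g 0) (.g 4)))) (.and (.eq (.mul (.mul (.g 0) (.g 6)) (.mul
    (.mul (.g 10) (.g 2)) (.g 6))) (.mul (.mul (.mul (.mul (.g 7) (.g 3)) (.g 10)) (.g 1)) (.mul (.g 0) (.g 6))))
    (.and (.eq (.mul (.mul (.g 0) (.g 6)) (.mul (.mul (.mul (.g 7) (.g 3)) (.g 10)) (.g 1))) (.mul (.mul (.mul (.g 10)
    (.g 2)) (.g 6)) (.mul (.g 0) (.g 6)))) (.and (.eq (.mul (.mul (.g 0) (.g 6)) (.mul (.mul (.g 2) (.g 4)) (.g 6)))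
    (.mul (.mul (.mul (.g 2) (.g 4)) (.g 6)) (.mul (.g 0) (.g 6)))) (.and (.eq (.mul (.mul (.mul (.mul (.g 2) (.g 6))
    (.g 10)) (.mul (.mul (.g 2) (.g 6)) (.g 10))) (.mul (.mul (.mul (.g 2) (.g 6)) (.g 10)) (.mul (.mul (.g 2) (.g 6))
    (.g 10)))) (.one)) (.and (.eq (.g 10) (.mul (.mul (.mul (.mul (.mul (.mul (.g 2) (.g 4)) (.g 6)) (.g 0)) (.g 0))
    (.g 0)) (.mul (.mul (.g 10) (.g 2)) (.g 6)))) (.eq (.mul (.mul (.mul (.mul (.mul (.mul (.g 2) (.g 4)) (.g 6))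
    (.mul (.mul (.g 10) (.g 2)) (.g 6))) (.mul (.mul (.g 10) (.g 2)) (.g 6))) (.mul (.mul (.g 10) (.g 2)) (.g 6)))
    (.mul (.mul (.mul (.g 7) (.g 3)) (.g 10)) (.g 1))) (.mul (.g 2) (.g 6)))))))))))) (by decide +kernel)

theorem cl : ∀ h ∈ centralizer {z}, h * h = 1 → h = 1 ∨ h = z ∨ ((∃ k ∈ centralizer {z}, k * (a * c) = h * k) ∨ (∃ k ∈
    centralizer {z}, k * (b * c * d) = h * k) ∨ (∃ k ∈ centralizer {z}, k * t = h * k)) ∧ (∃ k ∈ centralizer {z}, k *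
    h = z * h * k) :=
  L.dec (.all (.imp (.eq (.mul (.v 0) (.v 0)) (.one)) (.or (.eq (.v 0) (.one)) (.or (.eq (.v 0) (.g 11)) (.and (.or
    (.ex (.eq (.mul (.v 0) (.mul (.g 0) (.g 4))) (.mul (.v 1) (.v 0)))) (.or (.ex (.eq (.mul (.v 0) (.mul (.mul (.g 2)
    (.g 4)) (.g 6))) (.mul (.v 1) (.v 0)))) (.ex (.eq (.mul (.v 0) (.g 10)) (.mul (.v 1) (.v 0)))))) (.ex (.eq (.mul
    (.v 0) (.v 1)) (.mul (.mul (.g 11) (.v 1)) (.v 0))))))))) (by decide +kernel)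

theorem cw : ∀ h ∈ centralizer {z}, h * h = 1 → h ≠ 1 → (∃ k ∈ centralizer {z}, k * h = h * k ∧ k * k = z) ∨ (∀ k ∈
    centralizer {z}, k * h = h * k → k * k = 1) :=
  L.dec (.all (.imp (.eq (.mul (.v 0) (.v 0)) (.one)) (.imp (.not (.eq (.v 0) (.one))) (.or (.ex (.and (.eq (.mul (.v
    0) (.v 1)) (.mul (.v 1) (.v 0))) (.eq (.mul (.v 0) (.v 0)) (.g 11)))) (.all (.imp (.eq (.mul (.v 0) (.v 1)) (.mul
    (.v 1) (.v 0))) (.eq (.mul (.v 0) (.v 0)) (.one)))))))) (by decide +kernel)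

theorem cw2 : ∀ h ∈ centralizer {z}, h * (b * c * d) = b * c * d * h → h * h ≠ b * c * d :=
  L.dec (.all (.imp (.eq (.mul (.v 0) (.mul (.mul (.g 2) (.g 4)) (.g 6))) (.mul (.mul (.mul (.g 2) (.g 4)) (.g 6)) (.v
    0))) (.not (.eq (.mul (.v 0) (.v 0)) (.mul (.mul (.g 2) (.g 4)) (.g 6)))))) (by decide +kernel)

theorem ct : ∀ h ∈ centralizer {z}, h * t = t * h → (h = 1 ∨ h = z ∨ h = a * c ∨ h = z * (a * c)) ∨ (∃ k ∈ centralizer
    {z}, k * t = h * k) :=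
  L.dec (.all (.imp (.eq (.mul (.v 0) (.g 10)) (.mul (.g 10) (.v 0))) (.or (.or (.eq (.v 0) (.one)) (.or (.eq (.v 0)
    (.g 11)) (.or (.eq (.v 0) (.mul (.g 0) (.g 4))) (.eq (.v 0) (.mul (.g 11) (.mul (.g 0) (.g 4))))))) (.ex (.eq
    (.mul (.v 0) (.g 10)) (.mul (.v 1) (.v 0))))))) (by decide +kernel)

theorem cs : ∀ h ∈ centralizer {z}, h * (a * c) = a * c * h → h * h * (h * h) = 1 ∧ (h * a = a * h → h * (t * b * d) =
    t * b * d * h → h * (b * c * d) = b * c * d * h → h = 1 ∨ h = z ∨ h = a * c ∨ h = z * (a * c)) :=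
  L.dec (.all (.imp (.eq (.mul (.v 0) (.mul (.g 0) (.g 4))) (.mul (.mul (.g 0) (.g 4)) (.v 0))) (.and (.eq (.mul (.mul
    (.v 0) (.v 0)) (.mul (.v 0) (.v 0))) (.one)) (.imp (.eq (.mul (.v 0) (.g 0)) (.mul (.g 0) (.v 0))) (.imp (.eq
    (.mul (.v 0) (.mul (.mul (.g 10) (.g 2)) (.g 6))) (.mul (.mul (.mul (.g 10) (.g 2)) (.g 6)) (.v 0))) (.imp (.eq
    (.mul (.v 0) (.mul (.mul (.g 2) (.g 4)) (.g 6))) (.mul (.mul (.mul (.g 2) (.g 4)) (.g 6)) (.v 0))) (.or (.eq (.v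
    0) (.one)) (.or (.eq (.v 0) (.g 11)) (.or (.eq (.v 0) (.mul (.g 0) (.g 4))) (.eq (.v 0) (.mul (.g 11) (.mul (.g 0)
    (.g 4))))))))))))) (by decide +kernel)

theorem cp : ∀ h ∈ centralizer {z}, h * (a * c) = a * c * h → h * h = a * c → (∀ k ∈ centralizer {z}, k * (a * c) = a
    * c * k → k * k = z * (a * c) → a * h * k = h * k * a ∧ (a * h * k = 1 ∨ a * h * k = z ∨ a * h * k = a * c ∨ a * h
    * k = z * (a * c)) ∧ (a * h * k = 1 → (∀ m ∈ centralizer {z}, m * (a * c) = a * c * m → a * d * h * (a * d) * m =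
    m * k → h = t * b * d ∨ h = t * b * d⁻¹))) :=
  L.dec (.all (.imp (.eq (.mul (.v 0) (.mul (.g 0) (.g 4))) (.mul (.mul (.g 0) (.g 4)) (.v 0))) (.imp (.eq (.mul (.v
    0) (.v 0)) (.mul (.g 0) (.g 4))) (.all (.imp (.eq (.mul (.v 0) (.mul (.g 0) (.g 4))) (.mul (.mul (.g 0) (.g 4))
    (.v 0))) (.imp (.eq (.mul (.v 0) (.v 0)) (.mul (.g 11) (.mul (.g 0) (.g 4)))) (.and (.eq (.mul (.mul (.g 0) (.v
    1)) (.v 0)) (.mul (.mul (.v 1) (.v 0)) (.g 0))) (.and (.or (.eq (.mul (.mul (.g 0) (.v 1)) (.v 0)) (.one)) (.or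
    (.eq (.mul (.mul (.g 0) (.v 1)) (.v 0)) (.g 11)) (.or (.eq (.mul (.mul (.g 0) (.v 1)) (.v 0)) (.mul (.g 0) (.g
    4))) (.eq (.mul (.mul (.g 0) (.v 1)) (.v 0)) (.mul (.g 11) (.mul (.g 0) (.g 4))))))) (.imp (.eq (.mul (.mul (.g 0)
    (.v 1)) (.v 0)) (.one)) (.all (.imp (.eq (.mul (.v 0) (.mul (.g 0) (.g 4))) (.mul (.mul (.g 0) (.g 4)) (.v 0)))
    (.imp (.eq (.mul (.mul (.mul (.mul (.g 0) (.g 6)) (.v 2)) (.mul (.g 0) (.g 6))) (.v 0)) (.mul (.v 0) (.v 1))) (.or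
    (.eq (.v 2) (.mul (.mul (.g 10) (.g 2)) (.g 6))) (.eq (.v 2) (.mul (.mul (.g 10) (.g 2)) (.g 7)))))))))))))))) (by
    decide +kernel)

theorem cq : ∀ h ∈ centralizer {z}, h * (a * c) = a * c * h → h * (t * b * d) ≠ t * b * d * h → (∀ k ∈ centralizer
    {z}, k * (a * c) = a * c * k → k * (d⁻¹ * b⁻¹ * t * a⁻¹) ≠ d⁻¹ * b⁻¹ * t * a⁻¹ * k → t * h * t * k * t = h * k * h
    * t * h ∧ t * h * t * k * t * (a * c) = a * c * (t * h * t * k * t) ∧ t * h * t * k * t * a ≠ a * (t * h * t * k *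
    t)) :=
  L.dec (.all (.imp (.eq (.mul (.v 0) (.mul (.g 0) (.g 4))) (.mul (.mul (.g 0) (.g 4)) (.v 0))) (.imp (.not (.eq (.mul
    (.v 0) (.mul (.mul (.g 10) (.g 2)) (.g 6))) (.mul (.mul (.mul (.g 10) (.g 2)) (.g 6)) (.v 0)))) (.all (.imp (.eq
    (.mul (.v 0) (.mul (.g 0) (.g 4))) (.mul (.mul (.g 0) (.g 4)) (.v 0))) (.imp (.not (.eq (.mul (.v 0) (.mul (.mul
    (.mul (.g 7) (.g 3)) (.g 10)) (.g 1))) (.mul (.mul (.mul (.mul (.g 7) (.g 3)) (.g 10)) (.g 1)) (.v 0)))) (.and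
    (.eq (.mul (.mul (.mul (.mul (.g 10) (.v 1)) (.g 10)) (.v 0)) (.g 10)) (.mul (.mul (.mul (.mul (.v 1) (.v 0)) (.v
    1)) (.g 10)) (.v 1))) (.and (.eq (.mul (.mul (.mul (.mul (.mul (.g 10) (.v 1)) (.g 10)) (.v 0)) (.g 10)) (.mul (.g
    0) (.g 4))) (.mul (.mul (.g 0) (.g 4)) (.mul (.mul (.mul (.mul (.g 10) (.v 1)) (.g 10)) (.v 0)) (.g 10)))) (.not
    (.eq (.mul (.mul (.mul (.mul (.mul (.g 10) (.v 1)) (.g 10)) (.v 0)) (.g 10)) (.g 0)) (.mul (.g 0) (.mul (.mul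
    (.mul (.mul (.g 10) (.v 1)) (.g 10)) (.v 0)) (.g 10))))))))))))) (by decide +kernel)

theorem cf : ∀ h ∈ centralizer {z}, h * (a * c) = a * c * h → h * a ≠ a * h → (b * d * h = 1 ∨ b * d * h = z ∨ b * d *
    h = a * c ∨ b * d * h = z * (a * c)) ∨ (∃ k ∈ centralizer {z}, k * (a * c) = a * c * k ∧ k * a = a * k ∧ k * (t *
    b * d) = t * b * d * k ∧ k * h = b * c * d * k) ∨ (∃ k ∈ centralizer {z}, k * (a * c) = h * (t * b * d) * k) ∧ (∃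
    k ∈ centralizer {z}, k * (b * c * d) = h * (d⁻¹ * b⁻¹ * t * a⁻¹) * k) ∨ (∃ k ∈ centralizer {z}, k * (b * c * d) =
    h * (t * b * d) * k) ∧ (∃ k ∈ centralizer {z}, k * (a * c) = h * (d⁻¹ * b⁻¹ * t * a⁻¹) * k) :=
  L.dec (.all (.imp (.eq (.mul (.v 0) (.mul (.g 0) (.g 4))) (.mul (.mul (.g 0) (.g 4)) (.v 0))) (.imp (.not (.eq (.mul
    (.v 0) (.g 0)) (.mul (.g 0) (.v 0)))) (.or (.or (.eq (.mul (.mul (.g 2) (.g 6)) (.v 0)) (.one)) (.or (.eq (.mul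
    (.mul (.g 2) (.g 6)) (.v 0)) (.g 11)) (.or (.eq (.mul (.mul (.g 2) (.g 6)) (.v 0)) (.mul (.g 0) (.g 4))) (.eq
    (.mul (.mul (.g 2) (.g 6)) (.v 0)) (.mul (.g 11) (.mul (.g 0) (.g 4))))))) (.or (.ex (.and (.eq (.mul (.v 0) (.mul
    (.g 0) (.g 4))) (.mul (.mul (.g 0) (.g 4)) (.v 0))) (.and (.eq (.mul (.v 0) (.g 0)) (.mul (.g 0) (.v 0))) (.and
    (.eq (.mul (.v 0) (.mul (.mul (.g 10) (.g 2)) (.g 6))) (.mul (.mul (.mul (.g 10) (.g 2)) (.g 6)) (.v 0))) (.eq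
    (.mul (.v 0) (.v 1)) (.mul (.mul (.mul (.g 2) (.g 4)) (.g 6)) (.v 0))))))) (.or (.and (.ex (.eq (.mul (.v 0) (.mul
    (.g 0) (.g 4))) (.mul (.mul (.v 1) (.mul (.mul (.g 10) (.g 2)) (.g 6))) (.v 0)))) (.ex (.eq (.mul (.v 0) (.mul
    (.mul (.g 2) (.g 4)) (.g 6))) (.mul (.mul (.v 1) (.mul (.mul (.mul (.g 7) (.g 3)) (.g 10)) (.g 1))) (.v 0)))))
    (.and (.ex (.eq (.mul (.v 0) (.mul (.mul (.g 2) (.g 4)) (.g 6))) (.mul (.mul (.v 1) (.mul (.mul (.g 10) (.g 2))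
    (.g 6))) (.v 0)))) (.ex (.eq (.mul (.v 0) (.mul (.g 0) (.g 4))) (.mul (.mul (.v 1) (.mul (.mul (.mul (.g 7) (.g
    3)) (.g 10)) (.g 1))) (.v 0))))))))))) (by decide +kernel)

theorem cx : ∀ h ∈ centralizer {z}, h * x = x * h → (h * h = 1 → h = 1 ∨ h = z) ∧ (h * h * h = 1 ∨ h * h * h = z) ∧ (h
    * h * h = 1 → h = 1 ∨ h = x ∨ h = x⁻¹) :=
  L.dec (.all (.imp (.eq (.mul (.v 0) (.g 8)) (.mul (.g 8) (.v 0))) (.and (.imp (.eq (.mul (.v 0) (.v 0)) (.one)) (.or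
    (.eq (.v 0) (.one)) (.eq (.v 0) (.g 11)))) (.and (.or (.eq (.mul (.mul (.v 0) (.v 0)) (.v 0)) (.one)) (.eq (.mul
    (.mul (.v 0) (.v 0)) (.v 0)) (.g 11))) (.imp (.eq (.mul (.mul (.v 0) (.v 0)) (.v 0)) (.one)) (.or (.eq (.v 0)
    (.one)) (.or (.eq (.v 0) (.g 8)) (.eq (.v 0) (.g 9))))))))) (by decide +kernel)

theorem c3 : ∀ h ∈ centralizer {z}, h * h = 1 → h = 1 ∨ h = t * z ∨ (h = t * x * b ∨ h = x * t * z ∨ h = b * t * x * d
    ∨ h = t * x * d) ∨ (t * z * h * (t * z) = t * x * b ∨ t * z * h * (t * z) = x * t * z ∨ t * z * h * (t * z) = b *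
    t * x * d ∨ t * z * h * (t * z) = t * x * d) ∨ (∃ k ∈ centralizer {z}, (k = t * z * h ∨ k = t * z * h * (t * z *
    h) ∨ k = t * z * h * (t * z * h) * (t * z * h) ∨ k = t * z * h * (t * z * h) * (t * z * h * (t * z * h))) ∧ k * k
    = 1 ∧ k ≠ 1 ∧ k ≠ t * z ∧ k * (t * z) = t * z * k) :=
  L.dec (.all (.imp (.eq (.mul (.v 0) (.v 0)) (.one)) (.or (.eq (.v 0) (.one)) (.or (.eq (.v 0) (.mul (.g 10) (.g
    11))) (.or (.or (.eq (.v 0) (.mul (.mul (.g 10) (.g 8)) (.g 2))) (.or (.eq (.v 0) (.mul (.mul (.g 8) (.g 10)) (.g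
    11))) (.or (.eq (.v 0) (.mul (.mul (.mul (.g 2) (.g 10)) (.g 8)) (.g 6))) (.eq (.v 0) (.mul (.mul (.g 10) (.g 8))
    (.g 6)))))) (.or (.or (.eq (.mul (.mul (.mul (.g 10) (.g 11)) (.v 0)) (.mul (.g 10) (.g 11))) (.mul (.mul (.g 10)
    (.g 8)) (.g 2))) (.or (.eq (.mul (.mul (.mul (.g 10) (.g 11)) (.v 0)) (.mul (.g 10) (.g 11))) (.mul (.mul (.g 8)
    (.g 10)) (.g 11))) (.or (.eq (.mul (.mul (.mul (.g 10) (.g 11)) (.v 0)) (.mul (.g 10) (.g 11))) (.mul (.mul (.mul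
    (.g 2) (.g 10)) (.g 8)) (.g 6))) (.eq (.mul (.mul (.mul (.g 10) (.g 11)) (.v 0)) (.mul (.g 10) (.g 11))) (.mul
    (.mul (.g 10) (.g 8)) (.g 6)))))) (.ex (.and (.or (.eq (.v 0) (.mul (.mul (.g 10) (.g 11)) (.v 1))) (.or (.eq (.v
    0) (.mul (.mul (.mul (.g 10) (.g 11)) (.v 1)) (.mul (.mul (.g 10) (.g 11)) (.v 1)))) (.or (.eq (.v 0) (.mul (.mul
    (.mul (.mul (.g 10) (.g 11)) (.v 1)) (.mul (.mul (.g 10) (.g 11)) (.v 1))) (.mul (.mul (.g 10) (.g 11)) (.v 1))))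
    (.eq (.v 0) (.mul (.mul (.mul (.mul (.g 10) (.g 11)) (.v 1)) (.mul (.mul (.g 10) (.g 11)) (.v 1))) (.mul (.mul
    (.mul (.g 10) (.g 11)) (.v 1)) (.mul (.mul (.g 10) (.g 11)) (.v 1)))))))) (.and (.eq (.mul (.v 0) (.v 0)) (.one))
    (.and (.not (.eq (.v 0) (.one))) (.and (.not (.eq (.v 0) (.mul (.g 10) (.g 11)))) (.eq (.mul (.v 0) (.mul (.g 10)
    (.g 11))) (.mul (.mul (.g 10) (.g 11)) (.v 0)))))))))))))) (by decide +kernel)

end Loc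

end Cfsg.Agent.M12R
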