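import Cfsg.Agent.M12R.Big
import Cfsg.Agent.M12R.Hom
import Cfsg.Agent.Spor.J.M12a
import Cfsg.Agent.Spor.J.M12b
import Cfsg.Agent.Spor.J.M12c
import Cfsg.Agent.Invol.ZS

/-! Recognition of `M12` from the centraliser of a 2-central involution (helper28): `Loc.main` (`2³·L₃(2)` or `M12`),
`Loc.iso_of_simple`, `Loc.conj_of_central`. -/

set_option autoImplicit false
set_option maxRecDepth 100000

namespace Cfsg.Agent.M12R

open Cfsg.Agent.Comp Cfsg.Agent.Spor Cfsg.Agent.HJ Subgroup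

variable {G : Type*} [Group G]

theorem ev_congr' {M : Type*} [Monoid M] {g g' : ℕ → M} {w : List ℕ} (h : ∀ i ∈ w, g i = g' i) : ev g w = ev g' w := by
  induction w with
  | nil => rfl
  | cons i w ih => rw [ev_cons, ev_cons, h i List.mem_cons_self, ih fun j hj => h j (List.mem_cons_of_mem _ hj)]

/-- The fourteen letters. -/
def let14 (a b c d x t z r : G) : ℕ → G :=
  scons a <| scons a⁻¹ <| scons b <| scons b⁻¹ <| scons c <| scons c⁻¹ <| scons d <| scons d⁻¹ <| scons x <|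
    scons x⁻¹ <| scons t <| scons z <| scons r <| scons r⁻¹ fun _ => 1

theorem let14_lt (a b c d x t z r : G) (i : ℕ) (hi : i < 12) : let14 a b c d x t z r i = lets a b c d x t z i := by
  interval_cases i <;> rfl

variable [Finite G] {a b c d x t z r : G}

namespace Loc

variable (L : Loc a b c d x t z)
include L

theorem cv : ∀ h ∈ centralizer {z}, h * (a * c) = a * c * h → h * (b * d) = b * d * h → h * h = 1 ∧ (h = 1 ∨ h = z ∨
    (∃ k ∈ centralizer {z}, k * (a * c) = h * k)) ∧ (a * h * a⁻¹ * (a * c) = a * c * (a * h * a⁻¹) ∧ a * h * a⁻¹ * (b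
    * d) = b * d * (a * h * a⁻¹)) ∧ (b * h * b⁻¹ * (a * c) = a * c * (b * h * b⁻¹) ∧ b * h * b⁻¹ * (b * d) = b * d *
    (b * h * b⁻¹)) ∧ (c * h * c⁻¹ * (a * c) = a * c * (c * h * c⁻¹) ∧ c * h * c⁻¹ * (b * d) = b * d * (c * h * c⁻¹)) ∧
    (d * h * d⁻¹ * (a * c) = a * c * (d * h * d⁻¹) ∧ d * h * d⁻¹ * (b * d) = b * d * (d * h * d⁻¹)) ∧ (x * h * x⁻¹ *
    (a * c) = a * c * (x * h * x⁻¹) ∧ x * h * x⁻¹ * (b * d) = b * d * (x * h * x⁻¹)) ∧ t * h * t * (a * c) = a * c *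
    (t * h * t) ∧ t * h * t * (b * d) = b * d * (t * h * t) :=
  L.dec (.all (.imp (.eq (.mul (.v 0) (.mul (.g 0) (.g 4))) (.mul (.mul (.g 0) (.g 4)) (.v 0))) (.imp (.eq (.mul (.v
    0) (.mul (.g 2) (.g 6))) (.mul (.mul (.g 2) (.g 6)) (.v 0))) (.and (.eq (.mul (.v 0) (.v 0)) (.one)) (.and (.or
    (.eq (.v 0) (.one)) (.or (.eq (.v 0) (.g 11)) (.ex (.eq (.mul (.v 0) (.mul (.g 0) (.g 4))) (.mul (.v 1) (.v
    0)))))) (.and (.and (.eq (.mul (.mul (.mul (.g 0) (.v 0)) (.g 1)) (.mul (.g 0) (.g 4))) (.mul (.mul (.g 0) (.g 4))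
    (.mul (.mul (.g 0) (.v 0)) (.g 1)))) (.eq (.mul (.mul (.mul (.g 0) (.v 0)) (.g 1)) (.mul (.g 2) (.g 6))) (.mul
    (.mul (.g 2) (.g 6)) (.mul (.mul (.g 0) (.v 0)) (.g 1))))) (.and (.and (.eq (.mul (.mul (.mul (.g 2) (.v 0)) (.g
    3)) (.mul (.g 0) (.g 4))) (.mul (.mul (.g 0) (.g 4)) (.mul (.mul (.g 2) (.v 0)) (.g 3)))) (.eq (.mul (.mul (.mul
    (.g 2) (.v 0)) (.g 3)) (.mul (.g 2) (.g 6))) (.mul (.mul (.g 2) (.g 6)) (.mul (.mul (.g 2) (.v 0)) (.g 3)))))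
    (.and (.and (.eq (.mul (.mul (.mul (.g 4) (.v 0)) (.g 5)) (.mul (.g 0) (.g 4))) (.mul (.mul (.g 0) (.g 4)) (.mul
    (.mul (.g 4) (.v 0)) (.g 5)))) (.eq (.mul (.mul (.mul (.g 4) (.v 0)) (.g 5)) (.mul (.g 2) (.g 6))) (.mul (.mul (.g
    2) (.g 6)) (.mul (.mul (.g 4) (.v 0)) (.g 5))))) (.and (.and (.eq (.mul (.mul (.mul (.g 6) (.v 0)) (.g 7)) (.mul
    (.g 0) (.g 4))) (.mul (.mul (.g 0) (.g 4)) (.mul (.mul (.g 6) (.v 0)) (.g 7)))) (.eq (.mul (.mul (.mul (.g 6) (.v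
    0)) (.g 7)) (.mul (.g 2) (.g 6))) (.mul (.mul (.g 2) (.g 6)) (.mul (.mul (.g 6) (.v 0)) (.g 7))))) (.and (.and
    (.eq (.mul (.mul (.mul (.g 8) (.v 0)) (.g 9)) (.mul (.g 0) (.g 4))) (.mul (.mul (.g 0) (.g 4)) (.mul (.mul (.g 8)
    (.v 0)) (.g 9)))) (.eq (.mul (.mul (.mul (.g 8) (.v 0)) (.g 9)) (.mul (.g 2) (.g 6))) (.mul (.mul (.g 2) (.g 6))
    (.mul (.mul (.g 8) (.v 0)) (.g 9))))) (.and (.eq (.mul (.mul (.mul (.g 10) (.v 0)) (.g 10)) (.mul (.g 0) (.g 4)))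
    (.mul (.mul (.g 0) (.g 4)) (.mul (.mul (.g 10) (.v 0)) (.g 10)))) (.eq (.mul (.mul (.mul (.g 10) (.v 0)) (.g 10))
    (.mul (.g 2) (.g 6))) (.mul (.mul (.g 2) (.g 6)) (.mul (.mul (.g 10) (.v 0)) (.g 10))))))))))))))) 
    (by decide +kernel)

theorem cvf : ∀ f ∈ centralizer {z}, b * d * f = 1 ∨ b * d * f = z ∨ b * d * f = a * c ∨ b * d * f = z * (a * c) → f *
    (a * c) = a * c * f ∧ f * (b * d) = b * d * f ∧ (∃ k ∈ centralizer {z}, k * (b * c * d) = a * f * k) ∧ (∃ k ∈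
    centralizer {z}, k * t = t * b * d * f * k) ∧ (∃ k ∈ centralizer {z}, k * t = t * b * d⁻¹ * f * k) ∧ (∀ h ∈
    centralizer {z}, h * (a * c) = a * c * h → h * f = f * h → h * (b * d) = b * d * h) :=
  L.dec (.all (.imp (.or (.eq (.mul (.mul (.g 2) (.g 6)) (.v 0)) (.one)) (.or (.eq (.mul (.mul (.g 2) (.g 6)) (.v 0))
    (.g 11)) (.or (.eq (.mul (.mul (.g 2) (.g 6)) (.v 0)) (.mul (.g 0) (.g 4))) (.eq (.mul (.mul (.g 2) (.g 6)) (.v
    0)) (.mul (.g 11) (.mul (.g 0) (.g 4))))))) (.and (.eq (.mul (.v 0) (.mul (.g 0) (.g 4))) (.mul (.mul (.g 0) (.g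
    4)) (.v 0))) (.and (.eq (.mul (.v 0) (.mul (.g 2) (.g 6))) (.mul (.mul (.g 2) (.g 6)) (.v 0))) (.and (.ex (.eq
    (.mul (.v 0) (.mul (.mul (.g 2) (.g 4)) (.g 6))) (.mul (.mul (.g 0) (.v 1)) (.v 0)))) (.and (.ex (.eq (.mul (.v 0)
    (.g 10)) (.mul (.mul (.mul (.mul (.g 10) (.g 2)) (.g 6)) (.v 1)) (.v 0)))) (.and (.ex (.eq (.mul (.v 0) (.g 10))
    (.mul (.mul (.mul (.mul (.g 10) (.g 2)) (.g 7)) (.v 1)) (.v 0)))) (.all (.imp (.eq (.mul (.v 0) (.mul (.g 0) (.g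
    4))) (.mul (.mul (.g 0) (.g 4)) (.v 0))) (.imp (.eq (.mul (.v 0) (.v 1)) (.mul (.v 1) (.v 0))) (.eq (.mul (.v 0)
    (.mul (.g 2) (.g 6))) (.mul (.mul (.g 2) (.g 6)) (.v 0))))))))))))) (by decide +kernel)

theorem sv : a * c * (b * d) = b * d * (a * c) :=
  L.dec (.eq (.mul (.mul (.g 0) (.g 4)) (.mul (.g 2) (.g 6))) (.mul (.mul (.g 2) (.g 6)) (.mul (.g 0) (.g 4)))) 
    (by decide +kernel)


theorem caseV_of {f : G} (R : Tri z (a * c) r) (hf : κ r f = f) (h : InU z (a * c) (b * d * f)) : CaseV G := by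
  let V : Subgroup G := centralizer {z} ⊓ (centralizer {a * c} ⊓ centralizer {b * d})
  have mV : ∀ h, h ∈ V ↔ h ∈ centralizer {z} ∧ h * (a * c) = a * c * h ∧ h * (b * d) = b * d * h := fun h => by
    simp only [V, mem_inf, memC]
  have bd : b * d ∈ centralizer {z} := memC.2 (L.bz.mul_left L.dz).eq
  have fz : f ∈ centralizer {z} := by
    have : b * d * f ∈ centralizer {z} := by
      rcases h with h | h | h | h <;> rw [h]
      exacts [one_mem _, memC.2 rfl, memC.2 L.sz, mul_mem (memC.2 rfl) (memC.2 L.sz)]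
    exact (inv_mul_cancel_left (b * d) f) ▸ mul_mem (inv_mem bd) this
  obtain ⟨f1, f2, ⟨k3, -, f3⟩, f4, f5, f6⟩ := L.cvf f fz h
  have N : ∀ g, (∀ h ∈ V, κ g h ∈ V) → g ∈ normalizer (V : Set G) := fun g h => mem_normalizer_fintype h
  have N' : ∀ g, Commute g z → (∀ h ∈ centralizer {z}, h * (a * c) = a * c * h → h * (b * d) = b * d * h →
      g * h * g⁻¹ * (a * c) = a * c * (g * h * g⁻¹) ∧ g * h * g⁻¹ * (b * d) = b * d * (g * h * g⁻¹)) →
      g ∈ normalizer (V : Set G) := fun g h1 h2 => N g fun h hh =>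
    let ⟨k1, k2, k3⟩ := (mV h).1 hh
    (mV _).2 ⟨mul_mem (mul_mem (memC.2 h1) k1) (inv_mem (memC.2 h1)), h2 h k1 k2 k3⟩
  have hC : centralizer {z} ≤ normalizer (V : Set G) := L.gen _
    (N' a L.az fun h k1 k2 k3 => (L.cv h k1 k2 k3).2.2.1) (N' b L.bz fun h k1 k2 k3 => (L.cv h k1 k2 k3).2.2.2.1)
    (N' c L.cz fun h k1 k2 k3 => (L.cv h k1 k2 k3).2.2.2.2.1) (N' d L.dz fun h k1 k2 k3 => (L.cv h k1 k2 k3).2.2.2.2.2.1)
    (N' x L.xz fun h k1 k2 k3 => (L.cv h k1 k2 k3).2.2.2.2.2.2.1)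
    (N' t L.tz fun h k1 k2 k3 => (inv_of_sq L.tt).symm ▸ (L.cv h k1 k2 k3).2.2.2.2.2.2.2)
  have zV : z ∈ V := (mV _).2 ⟨memC.2 rfl, L.sz.symm, (memC.1 bd).symm⟩
  have sV : a * c ∈ V := (mV _).2 ⟨memC.2 L.sz, rfl, L.sv⟩
  have vV : b * d ∈ V := (mV _).2 ⟨bd, L.sv.symm, rfl⟩
  have V2 : ∀ v ∈ V, v * v = 1 := fun v hv => let ⟨k1, k2, k3⟩ := (mV v).1 hv; (L.cv v k1 k2 k3).1
  have fV : f ∈ V := (mV _).2 ⟨fz, f1, f2⟩
  have hr : r ∈ normalizer (V : Set G) := N r fun h hh => by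
    obtain ⟨k1, k2, -⟩ := (mV h).1 hh
    have m := R.mem L.ss L.sz k1 k2
    refine (mV _).2 ⟨m.1, m.2, f6 _ m.1 m.2 ?_⟩
    rw [← hf]; exact cj_comm.2 (Invol.commute_of_mul_sq (V2 _ hh) (V2 _ fV) (V2 _ (mul_mem hh fV))).eq
  have ht : ¬ IsConj z t := fun hc => L.not_conj_w (by
    have e := isConj_cj r (a * f)
    rw [map_mul, hf] at e
    refine hc.trans (IsConj.trans ?_ ((isConj_of f3).trans e).symm)
    rcases (L.p_cases R).2 with h | h <;> rw [h]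
    exacts [let ⟨_, _, k⟩ := f4; isConj_of k, let ⟨_, _, k⟩ := f5; isConj_of k])
  refine caseV L.z1 zV V2 ?_ hC L.card (fun h hh => (mV h).2 ⟨memC.2 (hh z zV).symm, (hh _ sV).symm, (hh _ vV).symm⟩) hr
    (fun h => L.sz' (R.rz.symm.trans (cj_eq.2 (memC.1 h)))) (fun v hv v1 => ?_) (fun u hu hz => ?_) (memC.2 L.tz) L.tt
    fun h => L.nes.2.2.2.2.2.2.2.2.1 ((mV t).1 h).2.2.symm
  · obtain ⟨_, R, c⟩ := L.reg
    have := (R.ncard c (.and (F.cm F.u (F.a * F.c)) (F.cm F.u (F.b * F.d)))).trans (by decide +kernel : _ = 8)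
    rw [← this, ← Nat.card_coe_set_eq]
    exact Nat.card_congr (Equiv.subtypeEquivRight mV)
  · obtain ⟨k1, k2, k3⟩ := (mV v).1 hv
    rcases (L.cv v k1 k2 k3).2.1 with h | h | ⟨k, hk, h⟩
    exacts [absurd h v1, ⟨1, one_mem _, by simp [h]⟩, ⟨k * r, mul_mem (hC hk) hr, by rw [cj_mul, R.rz, cj_eq.2 h]⟩]
  · obtain ⟨g, rfl⟩ := isConj_iff.1 hz
    rcases L.cl _ hu (cj_sq L.zz) with h | h | ⟨⟨k, hk, h⟩ | ⟨k, -, h⟩ | ⟨k, -, h⟩, -⟩
    exacts [h ▸ one_mem _, Set.mem_of_eq_of_mem h zV, cj_eq.2 h ▸ (mem_normalizer_iff.1 (hC hk) _).1 sV,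
      absurd (hz.trans (isConj_of h).symm) L.not_conj_w, absurd (hz.trans (isConj_of h).symm) ht]

end Loc

/-- The relators of the amalgam. -/
def baseRels : List (List ℕ) :=
  JM12h.rels ++ [[13, 12], [12, 13], [12, 12, 12], [10, 3, 7, 13, 0, 12], [6, 2, 10, 0, 13, 6, 2, 10, 12],
    [3, 5, 7, 13, 6, 4, 2, 12], [12, 6, 0, 12, 6, 0]]

namespace Amal

variable (M : Amal a b c d x t z r)
include M

omit [Finite G] in
theorem base : ∀ w ∈ baseRels, ev (let14 a b c d x t z r) w = 1 := fun w hw => by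
  rcases List.mem_append.1 hw with h | h
  · rw [← M.rels w h]
    refine ev_congr' fun i hi => let14_lt _ _ _ _ _ _ _ _ i ?_
    have := List.all_eq_true.1 (List.all_eq_true.1 (by decide : (JM12h.rels.all fun w => w.all (· < 12)) = true) w h) i hi
    simpa using this
  · simp only [List.mem_cons, List.not_mem_nil, or_false] at h
    rcases h with rfl | rfl | rfl | rfl | rfl | rfl | rfl
    · change 1 * r * r⁻¹ = 1; group
    · change 1 * r⁻¹ * r = 1; group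
    · change 1 * r * r * r = 1; rw [one_mul, M.rrr]
    · change 1 * r * a * r⁻¹ * d⁻¹ * b⁻¹ * t = 1
      rw [one_mul, ← MulAut.conj_apply, M.ra]; simp [M.tt]
    · change 1 * r * t * b * d * r⁻¹ * a * t * b * d = 1
      rw [show 1 * r * t * b * d * r⁻¹ = κ r (t * b * d) by simp [mul_assoc], M.rp]
      simp [mul_assoc, Invol.mul_self_cancel M.tt]
    · change 1 * r * b * c * d * r⁻¹ * d⁻¹ * c⁻¹ * b⁻¹ = 1
      rw [show 1 * r * b * c * d * r⁻¹ = κ r (b * c * d) by simp [mul_assoc], M.rw']; group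
    · change 1 * a * d * r * a * d * r = 1
      simpa only [one_mul, mul_assoc] using M.er

omit [Finite G] in
theorem subs_mem : ∀ w ∈ [[0], [2], [4], [6], [8], [10], [11]], ev (let14 a b c d x t z r) w ∈ centralizer {z} := by
  simp only [List.forall_mem_cons, ev_cons, ev_nil, one_mul]
  exact ⟨memC.2 M.az.eq, memC.2 M.bz.eq, memC.2 M.cz.eq, memC.2 M.dz.eq, memC.2 M.xz.eq, memC.2 M.tz.eq, memC.2 rfl,
    by simp⟩

theorem not_mem : r ∉ centralizer {z} := fun h => M.sz' (by rw [← M.rz, cj_eq.2 (memC.1 h)])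

theorem collapse (h : (∀ w ∈ [[0], [2], [4], [6], [8], [10], [11]], ev (let14 a b c d x t z r) w •
    basePt (centralizer {z}) = basePt (centralizer {z})) → ∀ u ∈ [(([], 12, []) : Seed)],
      SeedOk (let14 a b c d x t z r) (basePt (centralizer {z})) u) : False :=
  M.not_mem (one_mul r ▸
    mem_of_seeds (w := [12]) (h fun w hw => (smul_basePt_eq_iff _ _).2 (M.subs_mem w hw)) (by decide))

theorem rt : κ r t = b * d := by
  obtain ⟨-, -, -, -, -, -, -, -, e1, e2⟩ := M.eq1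
  rw [e1, map_mul, map_mul, map_mul, map_mul, M.rw', M.ra, M.rp, e2]

theorem gz : κ (r⁻¹ * x * r) z = t := by rw [cj_mul, cj_mul, M.rz, cj_eq.2 M.xs, cj_inv M.rt]

theorem gy : κ (r⁻¹ * x * r) (t * z) = z := by
  rw [cj_mul, cj_mul, map_mul (κ r), M.rt, M.rz, cj_eq.2 M.xs2, cj_inv M.rz]

theorem eq_top {K : Subgroup G} (hK : centralizer {z} ≤ K) (hr : r ∈ K) (hodd : ¬ 2 ^ (6 + 1) ∣ Nat.card K) :
    K = ⊤ := by
  have oz := Invol.orderOf_two_iff.2 ⟨M.zz, M.z1⟩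
  have two : ∀ u, IsConj z u → orderOf u = 2 := fun u hu => (Invol.orderOf_of_isConj hu).symm.trans oz
  obtain ⟨P, h1, h2⟩ := pc_of oz hK (fun u hu hc => by
    obtain ⟨g, hg, h⟩ := into M.card hK hodd hu (Invol.mul_self_of (two u hc))
    rcases M.cl _ h (cj_sq (Invol.mul_self_of (two u hc))) with k | k | ⟨⟨k, hk, e⟩ | ⟨k, hk, e⟩ | ⟨k, hk, e⟩, -⟩
    · exact absurd (cj_one.1 k) (Invol.ne_one_of (two u hc))
    · exact ⟨g⁻¹, inv_mem hg, cj_inv k⟩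
    · exact ⟨g⁻¹ * (k * r), mul_mem (inv_mem hg) (mul_mem (hK hk) hr),
        by rw [cj_mul, cj_mul, M.rz, cj_eq.2 e, cj_inv rfl]⟩
    · exact absurd ((hc.trans (isConj_cj g u)).trans (isConj_of e).symm) M.not_conj_w
    · exact ⟨g⁻¹ * (k * (r⁻¹ * x * r)), mul_mem (inv_mem hg) (mul_mem (hK hk)
        (mul_mem (mul_mem (inv_mem hr) (hK (memC.2 M.xz))) hr)), by rw [cj_mul, cj_mul, M.gz, cj_eq.2 e, cj_inv rfl]⟩)
    fun w hw hc ne => by
      obtain ⟨k, -, e⟩ := (((M.cl w hw (Invol.mul_self_of (two w hc))).resolve_left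
        (Invol.ne_one_of (two w hc))).resolve_left ne).2
      exact hc.trans (isConj_of e)
  refine top_le_iff.1 fun g _ => ?_
  by_contra hg
  exact M.nes.2.2.2.2.2.2.2.2.1 (P.comm_of_two (IsConj.refl z) h1 (isConj_cj g z) (h2 g hg)
    ((M.rz ▸ isConj_cj r z).trans (isConj_of M.xs)) (M.gz ▸ isConj_cj _ z)
    ⟨2, by rw [show 2 ^ 2 = 2 + 2 from rfl, pow_add, pow_two]; exact M.eq1.2.2.2.2.2.2.2.1⟩)

theorem iso_of_rel (h : Commute (κ (r⁻¹ * x * r) (t * x * b)) x ∨ Commute (κ (r⁻¹ * x * r) (x * t * z)) x ∨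
    Commute (κ (r⁻¹ * x * r) (b * t * x * d)) x ∨ Commute (κ (r⁻¹ * x * r) (t * x * d)) x) : Cfsg.Spor.IsoM12 G := by
  have he : let14 a b c d x t z r 255 = 1 := rfl
  have it := inv_of_sq M.tt
  have B : ∀ w : List ℕ, ∀ p, Commute p x → ev (let14 a b c d x t z r) w = x * p * x⁻¹ * p⁻¹ →
      ∀ u ∈ w :: baseRels, ev (let14 a b c d x t z r) u = 1 := fun w p h1 h2 =>
    List.forall_mem_cons.2 ⟨by rw [h2, ← h1.eq]; group, M.base⟩
  rcases h with h | h | h | h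
  · refine (M.collapse (JM12a.seedsOk he (rels_of_sub (B [12, 9, 13, 10, 9, 3, 12, 8, 13, 9, 12, 9, 13, 2, 8, 10, 12, 8,
      13, 8] _ h ?_) (by decide +kernel)))).elim
    change 1 * x * r⁻¹ * x * r * t * x * b * r⁻¹ * x⁻¹ * r * x⁻¹ * r⁻¹ * x * r * b⁻¹ * x⁻¹ * t * r⁻¹ * x⁻¹ * r = _
    simp [mul_assoc, it]
  · refine (M.collapse (JM12b.seedsOk he (rels_of_sub (B [12, 9, 13, 9, 10, 11, 12, 8, 13, 9, 12, 9, 13, 11, 10, 8, 12,
      8, 13, 8] _ h ?_) (by decide +kernel)))).elim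
    change 1 * x * r⁻¹ * x * r * x * t * z * r⁻¹ * x⁻¹ * r * x⁻¹ * r⁻¹ * x * r * z * t * x⁻¹ * r⁻¹ * x⁻¹ * r = _
    simp [mul_assoc, it, inv_of_sq M.zz]
  · refine (M.collapse (JM12c.seedsOk he (rels_of_sub (B [12, 9, 13, 3, 10, 9, 7, 12, 8, 13, 9, 12, 9, 13, 6, 8, 10, 2,
      12, 8, 13, 8] _ h ?_) (by decide +kernel)))).elim
    change 1 * x * r⁻¹ * x * r * b * t * x * d * r⁻¹ * x⁻¹ * r * x⁻¹ * r⁻¹ * x * r * d⁻¹ * x⁻¹ * t * b⁻¹ * r⁻¹ * x⁻¹ *
      r = _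
    simp [mul_assoc, it]
  · obtain ⟨φ⟩ := hom12 he (rels_of_sub (B [12, 9, 13, 10, 9, 7, 12, 8, 13, 9, 12, 9, 13, 6, 8, 10, 12, 8, 13, 8] _ h
      (by change 1 * x * r⁻¹ * x * r * t * x * d * r⁻¹ * x⁻¹ * r * x⁻¹ * r⁻¹ * x * r * d⁻¹ * x⁻¹ * t * r⁻¹ * x⁻¹ * r = _
          simp [mul_assoc, it])) (by decide +kernel)) M.z1
    have hc := (Nat.card_congr φ.toEquiv).trans Golay.card_M12
    have T := M.eq_top (K := genL (let14 a b c d x t z r) (List.range 14)) (M.gen _ (mem_genL _ (x := 0) (by decide))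
      (mem_genL _ (x := 2) (by decide)) (mem_genL _ (x := 4) (by decide)) (mem_genL _ (x := 6) (by decide))
      (mem_genL _ (x := 8) (by decide)) (mem_genL _ (x := 10) (by decide))) (mem_genL _ (x := 12) (by decide))
      (by rw [hc]; decide)
    rw [T] at φ
    exact ⟨topEquiv.symm.trans φ⟩

theorem iso {y : G} (y2 : y * y = 1) (y1 : y ≠ 1) (yz : y ≠ z) (yx : Commute y x) (yt : Commute y t) :
    Cfsg.Spor.IsoM12 G := by
  obtain ⟨h, rfl⟩ := (κ (r⁻¹ * x * r)).surjective y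
  have hz : h ∈ centralizer {z} := memC.2 (cj_comm.1 (by rw [M.gz]; exact yt))
  have zx : Commute (κ (r⁻¹ * x * r) (t * z)) x := M.gy.symm ▸ M.xz.symm
  rcases M.c3 h hz (cj_one.1 (by rwa [map_mul])) with e | e | e | e | ⟨k, -, e, k2, k1, ky, kc⟩
  · exact absurd (cj_one.2 e) y1
  · exact absurd (e ▸ M.gy) yz
  · exact M.iso_of_rel (by rcases e with e | e | e | e <;> rw [← e] <;> simp only [yx, true_or, or_true])
  · have : Commute (κ (r⁻¹ * x * r) (t * z * h * (t * z))) x := by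
      rw [map_mul _ (t * z * h), map_mul _ (t * z)]; exact (zx.mul_left yx).mul_left zx
    exact M.iso_of_rel (by rcases e with e | e | e | e <;> rw [← e] <;> simp only [this, true_or, or_true])
  · have n : Commute (κ (r⁻¹ * x * r) (t * z * h)) x := by rw [map_mul _ (t * z)]; exact zx.mul_left yx
    have : Commute (κ (r⁻¹ * x * r) k) x := by
      generalize t * z * h = m at e n
      generalize r⁻¹ * x * r = g at n ⊢
      rcases e with e | e | e | e <;> simp only [e, map_mul]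
      exacts [n, n.mul_left n, (n.mul_left n).mul_left n, (n.mul_left n).mul_left (n.mul_left n)]
    rcases (M.cx _ (memC.2 (by rw [← M.gy]; exact cj_comm.2 kc)) this).1 (cj_sq k2) with e | e
    · exact absurd (cj_one.1 e) k1
    · exact absurd (cj_inj.1 (e.trans M.gy.symm)) ky

theorem exists_out : ∃ k, Commute k x ∧ k ∉ centralizer {z} := by
  by_contra hn
  push Not at hn
  obtain ⟨g, hg⟩ := conj_of_self M.xxx M.nes.2.2.2.2.2.1 M.rrr (fun h => M.not_mem (h ▸ one_mem _)) fun k hk ⟨n, e⟩ => by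
    obtain ⟨-, h1 | h1, h2⟩ := M.cx k (hn k hk) hk
    · exact h2 h1
    · refine absurd (Invol.eq_one_of_odd_of_mul_self (Odd.of_dvd_nat (Odd.pow (n := n) (by decide : Odd 3))
        (orderOf_dvd_of_pow_eq_one ?_)) M.zz) M.z1
      rw [← h1, ← pow_three', ← pow_mul, mul_comm, pow_mul, e, one_pow]
  have c : Commute (κ g (b * c * d)) x := by
    have : Commute (κ g (b * c * d)) (κ g r) := cj_comm.2 (cj_eq.1 M.rw').symm
    rcases hg with e | e <;> rw [e] at this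
    exacts [this, Commute.inv_right_iff.1 this]
  rcases (M.cx _ (hn _ c) c).1 (cj_sq M.ww) with e | e
  · exact M.nes.2.2.2.2.2.2.2.2.2.2.1 (cj_one.1 e)
  · exact M.not_conj_w (e ▸ isConj_cj g _).symm

end Amal

namespace Loc

variable (L : Loc a b c d x t z)
include L

theorem main_aux (hc : IsConj z (a * c)) {y : G} (y2 : y * y = 1) (y1 : y ≠ 1) (yz : y ≠ z) (yx : Commute y x)
    (yt : Commute y t) : CaseV G ∨ Cfsg.Spor.IsoM12 G := by
  rcases L.amal_or hc with ⟨r, f, R, h1, h2⟩ | ⟨r, M⟩ | ⟨r, M⟩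
  exacts [.inl (L.caseV_of R h1 h2), .inr (M.iso y2 y1 yz yx yt), .inr (M.iso y2 y1 yz yx yt)]

theorem main (hc : IsConj z (a * c)) : CaseV G ∨ Cfsg.Spor.IsoM12 G := by
  have K : (∃ k, Commute k x ∧ k ∉ centralizer {z}) → CaseV G ∨ Cfsg.Spor.IsoM12 G := fun ⟨k, k1, k2⟩ => by
    obtain ⟨y, y2, y1, yz, yx, h | h⟩ := midpoint L.zz L.z1 L.tt L.tx L.xz (fun h hh hx => (L.cx h hh hx).1) k1 k2
    exacts [L.main_aux hc y2 y1 yz yx h, L.twist.main_aux hc y2 y1 yz yx h]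
  rcases L.amal_or hc with ⟨r, f, R, h1, h2⟩ | ⟨r, M⟩ | ⟨r, M⟩
  exacts [.inl (L.caseV_of R h1 h2), K M.exists_out, K M.exists_out]

theorem iso_of_simple [IsSimpleGroup G] (hG : ¬ IsMulCommutative G) : Cfsg.Spor.IsoM12 G := by
  have oz := Invol.orderOf_two_iff.2 ⟨L.zz, L.z1⟩
  have nt : ∀ N : Subgroup G, N.Normal → N ≠ ⊥ → N = ⊤ := fun N h h' => h.eq_bot_or_eq_top.resolve_left h'
  have hc : IsConj z (a * c) := by
    by_contra hn
    have hi : IsIsolatedInvolution z := ⟨oz, fun g hg => by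
      by_contra ne
      exact hn (L.conj_s (memC.2 hg.symm) ne (isConj_cj g z))⟩
    have o : pPrimeCore 2 G = ⊥ := by
      by_contra h
      have := Invol.odd_orderOf_of_mem Invol.odd_oddCore (nt _ inferInstance h ▸ mem_top z : z ∈ pPrimeCore 2 G)
      rw [oz] at this; exact absurd this (by decide)
    have : center G = ⊤ := nt _ inferInstance fun h => L.z1 (mem_bot.1 (h ▸ mem_center_iff.2 fun g => by
      obtain ⟨o', ho, k, hk, rfl⟩ := Invol.Isolated.factor hi g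
      rw [o] at ho
      rw [mem_bot.1 ho, one_mul]; exact hk.eq))
    exact hG ⟨⟨fun p q => mem_center_iff.1 (this ▸ mem_top q : q ∈ center G) p⟩⟩
  refine (L.main hc).resolve_left fun ⟨N, hN, h1, _, h3, _⟩ => hG ⟨⟨fun p q => ?_⟩⟩
  have := nt N hN fun h => by rw [h, card_bot] at h3; omega
  exact congrArg Subtype.val (h1.is_comm.comm ⟨p, this ▸ mem_top p⟩ ⟨q, this ▸ mem_top q⟩)

theorem card_cent : {h | h ∈ centralizer {z} ∧ h * (a * c) = a * c * h}.ncard = 32 ∧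
    {h | h ∈ centralizer {z} ∧ h * (b * c * d) = b * c * d * h}.ncard = 16 ∧
    {h | h ∈ centralizer {z} ∧ h * t = t * h}.ncard = 8 :=
  let ⟨_, R, c⟩ := L.reg
  ⟨(R.ncard c (F.cm F.u (F.a * F.c))).trans (by decide +kernel),
    (R.ncard c (F.cm F.u (F.b * F.c * F.d))).trans (by decide +kernel), (R.ncard c (F.cm F.u F.t)).trans (by decide +kernel)⟩

theorem conj_of_central (hodd : ¬ 2 ^ (6 + 1) ∣ Nat.card G) {u : G} (hu : IsTwoCentralInvolution u) : IsConj z u := by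
  obtain ⟨ou, P, uP, hP⟩ := hu
  haveI := Fact.mk Nat.prime_two
  obtain ⟨T, hT⟩ := Sylow.exists_subgroup_card_pow_prime (G := centralizer ({z} : Set G)) 2 (n := 6)
    (by rw [L.card]; decide)
  rw [← card_map_of_injective (subtype_injective _)] at hT
  have TH := map_subtype_le T
  generalize T.map (centralizer ({z} : Set G)).subtype = T at hT TH
  obtain ⟨g, -, hg⟩ := exists_conj_le_sylow (K := ⊤) Nat.prime_two le_top le_top hT card_top hodd P.isPGroup'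
  obtain ⟨S, hS⟩ := (IsPGroup.of_card hT).exists_le_sylow
  have c : 64 ≤ (P : Set G).ncard := by
    have := card_le_of_le hS
    rw [hT, S.card_eq_multiplicity, ← P.card_eq_multiplicity] at this
    exact this
  have K : ∀ k ∈ centralizer {z}, ∀ v, k * v = κ g u * k → 64 ≤ {h | h ∈ centralizer {z} ∧ h * v = v * h}.ncard :=
    fun k hk v e => c.trans (Set.ncard_le_ncard_of_injOn (fun y => κ k⁻¹ (κ g y)) (fun y hy =>
      ⟨mul_mem (mul_mem (inv_mem hk) (TH (hg y hy))) (inv_mem (inv_mem hk)),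
        by rw [← cj_inv (cj_eq.2 e)]; exact cj_comm.2 (cj_comm.2 (hP y hy))⟩) fun _ _ _ _ e => cj_inj.1 (cj_inj.1 e))
  obtain ⟨c1, c2, c3⟩ := L.card_cent
  rcases L.cl _ (TH (hg u uP)) (cj_sq (Invol.mul_self_of ou)) with h | h | ⟨⟨k, hk, h⟩ | ⟨k, hk, h⟩ | ⟨k, hk, h⟩, -⟩
  · exact absurd (cj_one.1 h) (Invol.ne_one_of ou)
  · exact h ▸ (isConj_cj g u).symm
  all_goals have := K k hk _ h; omega

end Loc

end Cfsg.Agent.M12R
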