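import Cfsg.Agent.M12R.Loc

/-! Fusion of `z` for the centraliser of type `M12` (helper28): `Loc.not_conj_w`, `Loc.conj_s`, `Loc.exists_rho`,
the amalgam `Amal` and `Loc.amal_or`. -/

set_option autoImplicit false

namespace Cfsg.Agent.M12R

open Cfsg.Agent.Comp Cfsg.Agent.Spor Cfsg.Agent.HJ Subgroup

variable {G : Type*} [Group G]

theorem back_mem {g u z : G} (hg : κ g z = u) (hu : u * z = z * u) : κ g⁻¹ z ∈ centralizer {z} := memC.2 (by
  have := (cj_comm (g := g⁻¹)).2 hu.symm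
  rwa [cj_inv hg] at this)

/-- An element of order three permuting `z, s, z s` cyclically. -/
structure Tri (z s r : G) : Prop where
  rrr : r * r * r = 1
  rz : κ r z = s
  rs : κ r s = z * s

theorem exists_tri {z s e : G} (zz : z * z = 1) (ss : s * s = 1) (sz : s * z = z * s) (s1 : s ≠ z) (z1 : z ≠ 1)
    (ez : e * z = z * e) (es : e * s = z * s * e) (hc : IsConj z s)
    (cl : ∀ h ∈ centralizer {z}, h * h = 1 → h ≠ 1 → h ≠ z → ∀ g, κ g h = z → κ g z = s →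
      ∃ k ∈ centralizer {z}, k * h = z * h * k)
    (cs : ∀ h ∈ centralizer {z}, h * s = s * h → h * h * (h * h) = 1) : ∃ r, Tri z s r := by
  obtain ⟨g, hg⟩ := isConj_iff.1 hc
  change κ g z = s at hg
  obtain ⟨k, hk, h⟩ := cl _ (back_mem hg sz) (cj_sq zz) (fun h => z1 (cj_one.1 h))
    (fun h => s1 (by rw [← hg]; nth_rw 1 [← h]; exact cj_cancel g z)) g (cj_cancel g z) hg
  have y1 : κ (κ g k) s = s := by rw [← hg]; exact cj_eq.2 (cj_comm.2 (memC.1 hk))
  have y2 : κ (κ g k) z = z * s := by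
    nth_rw 1 [← cj_cancel g z]
    rw [cj_eq, ← map_mul, h, map_mul, map_mul, hg, cj_cancel, sz]
  have k1 := cj_eq.2 ez
  have k2 := cj_eq.2 es
  have e1 : κ (e * κ g k) z = s := by rw [cj_mul, y2, map_mul, k1, k2, ← mul_assoc, zz, one_mul]
  have e2 : κ (e * κ g k) s = z * s := by rw [cj_mul, y1, k2]
  generalize e * κ g k = y at e1 e2
  have e3 : κ y (z * s) = z := by rw [map_mul, e1, e2, ← sz, ← mul_assoc, ss, one_mul]
  have c1 : κ (y * y * y) z = z := by rw [cj_mul, cj_mul, e1, e2, e3]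
  have c2 : κ (y * y * y) s = s := by rw [cj_mul, cj_mul, e2, e3, e1]
  refine ⟨y * y * y * y, ?_, by rw [cj_mul, e1, c2], by rw [cj_mul, e2, map_mul, c1, c2]⟩
  simpa only [mul_assoc] using cs _ (memC.2 (cj_eq.1 c1)) (cj_eq.1 c2)

namespace Tri

variable {z s r : G} (R : Tri z s r)
include R

theorem rzs (ss : s * s = 1) (sz : s * z = z * s) : κ r (z * s) = z := by
  rw [map_mul, R.rz, R.rs, ← sz, ← mul_assoc, ss, one_mul]

theorem three (u : G) : κ r (κ r (κ r u)) = u := by rw [← cj_mul, ← cj_mul, R.rrr, map_one]; rfl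

theorem mem (ss : s * s = 1) (sz : s * z = z * s) {u : G} (h1 : u ∈ centralizer {z}) (h2 : u * s = s * u) :
    κ r u ∈ centralizer {z} ∧ κ r u * s = s * κ r u :=
  ⟨memC.2 (by rw [← R.rzs ss sz]; exact cj_comm.2 (Commute.mul_right (memC.1 h1) h2).eq),
    by rw [← R.rz]; exact cj_comm.2 (memC.1 h1)⟩

theorem nofix (ss : s * s = 1) (sz : s * z = z * s) (z1 : z ≠ 1) (s1 : s ≠ 1) (h0 : s ≠ z) {u : G} (h : InU z s u)
    (f : κ r u = u) : u = 1 := by
  rcases h with h | h | h | h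
  · exact h
  · rw [h, R.rz] at f; exact absurd f h0
  · rw [h, R.rs] at f; exact absurd (by simpa using f) z1
  · rw [h, R.rzs ss sz] at f; exact absurd (by simpa using f) s1

theorem conj {k : G} (h1 : k * z = z * k) (h2 : k * s = s * k) : Tri z s (κ k r) := by
  have a1 := cj_eq.2 h1
  have a2 := cj_eq.2 h2
  refine ⟨by rw [← map_mul, ← map_mul, R.rrr, map_one], ?_, ?_⟩
  · rw [MulAut.conj_apply k, cj_mul, cj_mul, cj_inv a1, R.rz, a2]
  · rw [MulAut.conj_apply k, cj_mul, cj_mul, cj_inv a2, R.rs, map_mul, a1, a2]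

end Tri

/-- The amalgam of `C(z)` and `N(⟨z, a c⟩)` occurring in `M12`. -/
structure Amal (a b c d x t z r : G) : Prop extends Loc a b c d x t z, Tri z (a * c) r where
  ra : κ r a = t * b * d
  rp : κ r (t * b * d) = d⁻¹ * b⁻¹ * t * a⁻¹
  rw' : κ r (b * c * d) = b * c * d
  er : a * d * r * (a * d * r) = 1

namespace Loc

variable [Finite G] {a b c d x t z r : G} (L : Loc a b c d x t z)
include L

theorem z1 : z ≠ 1 := L.nes.1
theorem s1 : a * c ≠ 1 := L.nes.2.1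
theorem sz' : a * c ≠ z := L.nes.2.2.1

theorem not_conj_w : ¬ IsConj z (b * c * d) := fun hc => by
  obtain ⟨g, hg⟩ := isConj_iff.1 hc
  change κ g z = _ at hg
  rcases L.cw _ (back_mem hg L.eq1.2.1) (cj_sq L.zz) (fun h => L.z1 (cj_one.1 h)) with ⟨k, hk, h1, h2⟩ | h
  · refine L.cw2 (κ g k) (memC.2 ?_) (by rw [← hg]; exact cj_comm.2 (memC.1 hk)) (by rw [← map_mul, h2, hg])
    rw [← cj_cancel g z]; exact cj_comm.2 h1
  · have := h (κ g⁻¹ b) (memC.2 (by rw [← cj_inv hg]; exact cj_comm.2 L.eq1.1)) (cj_comm.2 L.bz.eq)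
    rw [← map_mul] at this
    exact L.nes.2.2.2.2.2.2.2.2.2.1 (cj_one.1 this)

theorem conj_s {u : G} (hu : u ∈ centralizer {z}) (hne : u ≠ z) (hc : IsConj z u) : IsConj z (a * c) := by
  by_contra hs
  have cs : ∀ g, κ g z ∈ centralizer {z} → κ g z ≠ z → ∃ k ∈ centralizer {z}, κ k t = κ g z := fun g h1 h2 => by
    rcases L.cl _ h1 (cj_sq L.zz) with h | h | ⟨⟨k, -, h⟩ | ⟨k, -, h⟩ | ⟨k, hk, h⟩, -⟩
    exacts [absurd (cj_one.1 h) L.z1, absurd h h2, absurd ((isConj_cj g z).trans (isConj_of h).symm) hs,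
      absurd ((isConj_cj g z).trans (isConj_of h).symm) L.not_conj_w, ⟨k, hk, cj_eq.2 h⟩]
  obtain ⟨g, rfl⟩ := isConj_iff.1 hc
  obtain ⟨k, hk, h⟩ := cs g hu hne
  have e1 : κ (k⁻¹ * g) z = t := (cj_mul _ _ _).trans (cj_inv h)
  obtain ⟨k', hk', h'⟩ := cs _ (back_mem e1 L.tz.eq) fun e =>
    L.nes.2.2.2.2.1 (by rw [← e1]; nth_rw 1 [← e]; exact cj_cancel _ z)
  have e2 : κ (k⁻¹ * g * k') z = t := by rw [cj_mul, cj_eq.2 (memC.1 hk'), e1]
  have e3 : κ (k⁻¹ * g * k') t = z := by rw [cj_mul, h', cj_cancel]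
  generalize k⁻¹ * g * k' = y at e2 e3
  have P : ∀ v, v * z = z * v → v * t = t * v → IsConj (a * c) v → κ y v = a * c ∨ κ y v = z * (a * c) :=
    fun v h1 h2 h3 => by
    rcases L.ct (κ y v) (memC.2 (by rw [← e3]; exact cj_comm.2 h2)) (by rw [← e2]; exact cj_comm.2 h1) with
      (h | h | h) | ⟨k, -, h⟩
    · rw [cj_one.1 h, isConj_one_left] at h3; exact absurd h3 L.s1
    · exact absurd (h3.trans (h ▸ isConj_cj y v)).symm hs
    · exact h
    · exact absurd (((e2 ▸ isConj_cj y z).trans (isConj_of h)).trans (h3.trans (isConj_cj y v)).symm) hs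
  have q : κ y (z * (a * c)) = t * κ y (a * c) := by rw [map_mul, e2]
  have t1 := L.nes.2.2.2.1
  have tz := L.nes.2.2.2.2.1
  rcases P _ L.sz L.ts.symm (.refl _) with h1 | h1 <;>
    rcases P (z * (a * c)) ((Commute.refl z).mul_left L.sz) (L.tz.mul_right L.ts).symm (isConj_of L.es) with
      h2 | h2 <;> rw [h1, h2] at q
  · exact t1 (by simpa using q)
  · exact tz (mul_right_cancel q).symm
  · exact tz (by rw [← mul_assoc, eq_comm, mul_eq_right, mul_eq_one_iff_eq_inv, inv_of_sq L.zz] at q; exact q)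
  · exact t1 (by simpa using q)

theorem exists_rho (hc : IsConj z (a * c)) : ∃ r, Tri z (a * c) r :=
  exists_tri L.zz L.ss L.sz L.sz' L.z1 L.ez L.es hc
    (fun h hh h2 h1 hz _ _ _ => (((L.cl h hh h2).resolve_left h1).resolve_left hz).2) fun h hh hs => (L.cs h hh hs).1

theorem p_cases (R : Tri z (a * c) r) : a * κ r a * κ r (κ r a) = 1 ∧ (κ r a = t * b * d ∨ κ r a = t * b * d⁻¹) := by
  have m1 := R.mem L.ss L.sz (memC.2 L.az.eq) L.as
  have m2 := R.mem L.ss L.sz m1.1 m1.2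
  obtain ⟨h1, h2, h3⟩ := L.cp _ m1.1 m1.2 (by rw [← map_mul, L.aa, R.rz]) _ m2.1 m2.2
    (by rw [← map_mul, ← map_mul, L.aa, R.rz, R.rs])
  have h4 := R.nofix L.ss L.sz L.z1 L.s1 L.sz' h2 (by rw [map_mul, map_mul, R.three, ← h1])
  have k1 := cj_eq.2 L.ez
  have k2 := cj_eq.2 L.es
  have f1 : κ (a * d * r) z = z * (a * c) := by rw [cj_mul, R.rz, k2]
  have f2 : κ (a * d * r) (a * c) = a * c := by rw [cj_mul, R.rs, map_mul, k1, k2, ← mul_assoc, L.zz, one_mul]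
  have f3 : κ (a * d * r) (z * (a * c)) = z := by rw [map_mul, f1, f2, mul_assoc, L.ss, mul_one]
  refine ⟨h4, h3 h4 (a * d * r * (a * d * r)) (memC.2 (cj_eq.1 (by rw [cj_mul, f1, f3])))
    (cj_eq.1 (by rw [cj_mul, f2, f2])) ?_⟩
  have i1 : κ r (κ r a) = r⁻¹ * a * r := by
    have := cj_inv (R.three a); rw [← this]; simp
  have ee := L.ee
  have ea := L.ea
  rw [i1, MulAut.conj_apply]
  generalize a * d = e at ee ea ⊢
  calc e * (r * a * r⁻¹) * e * (e * r * (e * r)) = e * r * a * r⁻¹ * (e * e) * r * e * r := by group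
    _ = e * r * (a * e) * r := by rw [ee]; group
    _ = _ := by rw [← ea]; group

theorem amal_of (R : Tri z (a * c) r) (ra : κ r a = t * b * d) :
    (∃ f, κ r f = f ∧ InU z (a * c) (b * d * f)) ∨ ∃ r, Amal a b c d x t z r := by
  have rp : κ r (t * b * d) = d⁻¹ * b⁻¹ * t * a⁻¹ := by
    have := (L.p_cases R).1
    rw [ra] at this
    rw [eq_inv_of_mul_eq_one_right this]; simp [inv_of_sq L.tt, mul_assoc]
  have m1 := R.mem L.ss L.sz (memC.2 L.tz.eq) L.ts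
  have m2 := R.mem L.ss L.sz m1.1 m1.2
  have n1 : κ r t * κ r a ≠ κ r a * κ r t := fun h => L.nes.2.2.2.2.2.2.1 (cj_comm.1 h)
  obtain ⟨h1, h2, h3⟩ := L.cq _ m1.1 m1.2 (ra ▸ n1) _ m2.1 m2.2 (by rw [← rp, ← ra]; exact fun h => n1 (cj_comm.1 h))
  have mt := memC.2 L.tz.eq
  have hf : κ r (t * κ r t * t * κ r (κ r t) * t) = t * κ r t * t * κ r (κ r t) * t := by
    rw [h1]; simp only [map_mul, R.three, ← h1]
  have hm := mul_mem (mul_mem (mul_mem (mul_mem mt m1.1) mt) m2.1) mt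
  generalize t * κ r t * t * κ r (κ r t) * t = f at h2 h3 hf hm
  have cj : IsConj (f * (t * b * d)) (f * (d⁻¹ * b⁻¹ * t * a⁻¹)) := by
    have := isConj_cj r (f * (t * b * d)); rwa [map_mul, hf, rp] at this
  have hs : IsConj z (a * c) := R.rz ▸ isConj_cj r z
  rcases L.cf f hm h2 h3 with h | ⟨k, hk, k1, k2, k3, k4⟩ | ⟨⟨k, -, k1⟩, k', -, k2⟩ | ⟨⟨k, -, k1⟩, k', -, k2⟩
  · exact .inl ⟨f, hf, h⟩
  · right
    have R' := R.conj (memC.1 hk) k1
    have q : ∀ u v, κ r u = v → κ (κ k r) (κ k u) = κ k v := fun u v h => by rw [← h]; simp [mul_assoc]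
    have a1 := q _ _ ra
    have a2 := q _ _ rp
    have a3 := q _ _ hf
    have k5 : κ k (d⁻¹ * b⁻¹ * t * a⁻¹) = d⁻¹ * b⁻¹ * t * a⁻¹ := by
      rw [show d⁻¹ * b⁻¹ * t * a⁻¹ = (a * (t * b * d))⁻¹ by simp [inv_of_sq L.tt, mul_assoc], map_inv, map_mul,
        cj_eq.2 k2, cj_eq.2 k3]
    rw [cj_eq.2 k2, cj_eq.2 k3] at a1
    rw [cj_eq.2 k3, k5] at a2
    rw [cj_eq.2 k4] at a3
    generalize κ k r = r at R' a1 a2 a3
    have a4 : κ r (d⁻¹ * b⁻¹ * t * a⁻¹) = a := by rw [← a2, ← a1, R'.three]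
    obtain ⟨-, -, -, -, e1, e2, e3, -⟩ := L.eq1
    have k1 := cj_eq.2 L.ez
    have k2 := cj_eq.2 L.es
    have f1 : κ (a * d * r) z = z * (a * c) := by rw [cj_mul, R'.rz, k2]
    have f2 : κ (a * d * r) (a * c) = a * c := by rw [cj_mul, R'.rs, map_mul, k1, k2, ← mul_assoc, L.zz, one_mul]
    have f3 : κ (a * d * r) (z * (a * c)) = z := by rw [map_mul, f1, f2, mul_assoc, L.ss, mul_one]
    have mz : a * d * r * (a * d * r) * z = z * (a * d * r * (a * d * r)) := cj_eq.1 (by rw [cj_mul, f1, f3])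
    have f : κ (a * d * r) (a * d * r * (a * d * r)) = a * d * r * (a * d * r) := cj_eq.2 (mul_assoc _ _ _).symm
    rcases (L.cs _ (memC.2 mz) (cj_eq.1 (by rw [cj_mul, f2, f2]))).2
      (cj_eq.1 (by rw [cj_mul, cj_mul _ r a, a1, cj_eq.2 e1, cj_mul, a4, cj_eq.2 L.ea]))
      (cj_eq.1 (by rw [cj_mul, cj_mul _ r (t * b * d), a2, cj_eq.2 e2, cj_mul, a2, cj_eq.2 e2]))
      (cj_eq.1 (by rw [cj_mul, cj_mul _ r (b * c * d), a3, cj_eq.2 e3, cj_mul, a3, cj_eq.2 e3])) with h | h | h | h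
    · exact ⟨r, L, R', a1, a2, a3, h⟩
    · rw [h, f1] at f; exact absurd (by simpa using f) L.s1
    · have Z : ∀ u v, u * z = z * u → κ r u = v → κ (r * z) u = v := fun u v h1 h2 => by
        rw [cj_mul, cj_eq.2 h1.symm, h2]
      refine ⟨r * z, L, ⟨?_, Z _ _ rfl R'.rz, Z _ _ L.sz R'.rs⟩, Z _ _ L.az.eq a1,
        Z _ _ ((L.tz.mul_left L.bz).mul_left L.dz).eq a2, Z _ _ L.eq1.2.1 a3, ?_⟩
      · rw [show r * z * (r * z) * (r * z) = κ r z * κ r (κ r z) * κ r (κ r (κ r z)) * (r * r * r) by simp [mul_assoc],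
          R'.three, R'.rrr, R'.rz, R'.rs, ← L.sz, ← mul_assoc (a * c), L.ss, one_mul, L.zz, one_mul]
      · rw [show a * d * (r * z) * (a * d * (r * z)) = κ (a * d * r) z * (a * d * r * (a * d * r)) * z by
          simp [mul_assoc], f1, h, mul_assoc z, L.ss, mul_one, L.zz]
    · rw [h, f3] at f; exact absurd (by simpa using f) L.s1
  · exact absurd (hs.trans (((isConj_of k1).trans cj).trans (isConj_of k2).symm)) L.not_conj_w
  · exact absurd (hs.trans (((isConj_of k2).trans cj.symm).trans (isConj_of k1).symm)) L.not_conj_w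

theorem amal_or (hc : IsConj z (a * c)) : (∃ r f, Tri z (a * c) r ∧ κ r f = f ∧ InU z (a * c) (b * d * f)) ∨
    (∃ r, Amal a b c d x t z r) ∨ ∃ r, Amal c d a b x t z r := by
  obtain ⟨r, R⟩ := L.exists_rho hc
  rcases (L.p_cases R).2 with h | h
  · exact (L.amal_of R h).imp (fun ⟨f, h⟩ => ⟨r, f, R, h⟩) .inl
  · refine (L.swap.amal_of (L.ac.eq ▸ R) ?_).imp (fun ⟨f, h⟩ => ⟨r, f, R, L.ac.eq ▸ L.bd.eq ▸ h⟩) .inr
    rw [L.eq1.2.2.1, map_mul, map_inv, h, R.rs, ← L.eq1.2.2.2.1, inv_mul_cancel_left]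

end Loc

end Cfsg.Agent.M12R
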